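import Mathlib.AlgebraicGeometry.ZariskisMainTheorem
import Mathlib.AlgebraicGeometry.Morphisms.Immersion
import Mathlib.RingTheory.FinitePresentation

/-!
# Finitely presented finite compactifications of quasi-finite morphisms
-/

universe u

set_option linter.style.haveILetI false
set_option backward.isDefEq.respectTransparency false

open CategoryTheory CategoryTheory.Limits AlgebraicGeometry Topology TopologicalSpace

namespace Groth.Agent.FibreTop

/-- A morphism whose restrictions over opens containing the range are immersions is an immersion. -/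
theorem isImmersion_of_restrict {X Z : Scheme.{u}} (j : X ⟶ Z) {ι : Type*} (V : ι → Z.Opens)
    (hr : ∀ x, ∃ i, j x ∈ V i) (h : ∀ i, IsImmersion (j ∣_ V i)) : IsImmersion j := by
  let U : Z.Opens := ⨆ i, V i
  have htop : j ⁻¹ᵁ U = ⊤ := top_le_iff.1 fun x _ => Opens.mem_iSup.2 (hr x)
  haveI : IsImmersion (j ∣_ U) := by
    refine IsZariskiLocalAtTarget.of_iSup_eq_top (fun i => U.ι ⁻¹ᵁ V i) ?_ fun i => ?_
    · refine top_le_iff.1 fun z _ => ?_
      obtain ⟨i, hi⟩ := Opens.mem_iSup.1 z.2
      exact Opens.mem_iSup.2 ⟨i, hi⟩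
    · have e : U.ι ''ᵁ (U.ι ⁻¹ᵁ V i) = V i := by
        rw [Scheme.Hom.image_preimage_eq_opensRange_inf, Scheme.Opens.opensRange_ι,
          inf_eq_right.2 (le_iSup V i)]
      refine (MorphismProperty.arrow_mk_iso_iff @IsImmersion (morphismRestrictRestrict j U _ ≪≫
        morphismRestrictEq j e)).2 (h i)
  haveI : IsIso (j ⁻¹ᵁ U).ι := by
    rw [htop]; exact inferInstanceAs (IsIso X.topIso.hom)
  rw [show j = inv (j ⁻¹ᵁ U).ι ≫ j ∣_ U ≫ U.ι by simp]
  infer_instance

open Polynomial in
theorem exists_fp_finite {B C : Type u} [CommRing B] [CommRing C] [Algebra B C]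
    [Algebra.IsIntegral B C] (s : Finset C) :
    ∃ (P : Type u) (_ : CommRing P) (_ : Algebra B P), Algebra.FinitePresentation B P ∧
      Module.Finite B P ∧ ∃ φ : P →ₐ[B] C, (s : Set C) ⊆ Set.range φ := by
  choose p hp hp0 using fun a : s => Algebra.IsIntegral.isIntegral (R := B) (a : C)
  let r : s → MvPolynomial s B := fun a => Polynomial.aeval (MvPolynomial.X a) (p a)
  let I : Ideal (MvPolynomial s B) := Ideal.span (Set.range r)
  haveI hfp : Algebra.FinitePresentation B (MvPolynomial s B ⧸ I) :=
    Algebra.FinitePresentation.quotient ⟨(Set.finite_range r).toFinset, by simp [I]⟩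
  have hle : I ≤ RingHom.ker (MvPolynomial.aeval (R := B) fun a : s => (a : C)).toRingHom := by
    rw [Ideal.span_le]
    rintro _ ⟨a, rfl⟩
    show MvPolynomial.aeval (R := B) (fun a : s => (a : C)) (Polynomial.aeval _ (p a)) = 0
    rw [← Polynomial.aeval_algHom_apply, MvPolynomial.aeval_X]
    exact hp0 a
  have hgen : Algebra.adjoin B (Set.range fun a => Ideal.Quotient.mkₐ B I (MvPolynomial.X a)) = ⊤ := by
    rw [show (Set.range fun a => Ideal.Quotient.mkₐ B I (MvPolynomial.X a)) =
      Ideal.Quotient.mkₐ B I '' Set.range MvPolynomial.X from Set.range_comp _ _,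
      Algebra.adjoin_image, MvPolynomial.adjoin_range_X, Algebra.map_top]
    exact AlgHom.range_eq_top _ |>.2 (Ideal.Quotient.mkₐ_surjective B I)
  have hfin : Module.Finite B (MvPolynomial s B ⧸ I) := by
    have := fg_adjoin_of_finite (R := B)
      (Set.finite_range fun a => Ideal.Quotient.mkₐ B I (MvPolynomial.X a)) ?_
    · rw [hgen, Algebra.top_toSubmodule] at this
      exact ⟨this⟩
    · rintro _ ⟨a, rfl⟩
      refine ⟨p a, hp a, ?_⟩
      show Polynomial.aeval (Ideal.Quotient.mkₐ B I (MvPolynomial.X a)) (p a) = 0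
      rw [Polynomial.aeval_algHom_apply]
      exact Ideal.Quotient.eq_zero_iff_mem.2 (Ideal.subset_span ⟨a, rfl⟩)
  exact ⟨_, inferInstance, inferInstance, hfp, hfin,
    Ideal.Quotient.liftₐ I (MvPolynomial.aeval fun a : s => (a : C)) hle,
    fun c hc => ⟨Ideal.Quotient.mk I (MvPolynomial.X ⟨c, hc⟩), by
      exact MvPolynomial.aeval_X (R := B) (fun a : s => (a : C)) ⟨c, hc⟩⟩⟩

/-- The affine step: an open subscheme, of finite type over the base, of an integral scheme. -/
theorem exists_factor_of_integral {X : Scheme.{u}} [CompactSpace X] {B C : CommRingCat.{u}} (g : B ⟶ C)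
    (hg : g.hom.IsIntegral) (e : X ⟶ Spec C) [IsOpenImmersion e]
    [LocallyOfFiniteType (e ≫ Spec.map g)] :
    ∃ (Z : Scheme.{u}) (j : X ⟶ Z) (π : Z ⟶ Spec B), IsImmersion j ∧ IsFinite π ∧
      LocallyOfFinitePresentation π ∧ j ≫ π = e ≫ Spec.map g := by
  classical
  letI := g.hom.toAlgebra
  haveI : Algebra.IsIntegral B C := ⟨hg⟩
  have hcov : ∀ x : X, ∃ c : C, e x ∈ PrimeSpectrum.basicOpen c ∧
      ((PrimeSpectrum.basicOpen c : Opens (PrimeSpectrum C)) : Set (PrimeSpectrum C)) ⊆ Set.range e := by
    intro x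
    obtain ⟨_, ⟨c, rfl⟩, hc, hsub⟩ := PrimeSpectrum.isTopologicalBasis_basic_opens.exists_subset_of_mem_open
      (⟨x, rfl⟩ : e x ∈ Set.range e) e.isOpenEmbedding.isOpen_range
    exact ⟨c, hc, hsub⟩
  choose c hxc hc using hcov
  obtain ⟨t, ht⟩ := isCompact_univ.elim_finite_subcover
    (fun x : X => e ⁻¹' ((PrimeSpectrum.basicOpen (c x) : Opens (PrimeSpectrum C)) : Set (PrimeSpectrum C)))
    (fun x => (PrimeSpectrum.basicOpen (c x)).2.preimage e.continuous)
    (fun x _ => Set.mem_iUnion.2 ⟨x, hxc x⟩)
  have hft : ∀ x : X, Algebra.FiniteType B (Localization.Away (c x)) := by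
    intro x
    let l : C ⟶ CommRingCat.of (Localization.Away (c x)) :=
      CommRingCat.ofHom (algebraMap C (Localization.Away (c x)))
    haveI : IsOpenImmersion (Spec.map l) := IsOpenImmersion.of_isLocalization (c x)
    have hr : Set.range (Spec.map l) ⊆ Set.range e :=
      (PrimeSpectrum.localization_away_comap_range (Localization.Away (c x)) (c x)).le.trans (hc x)
    haveI : LocallyOfFiniteType (Spec.map (g ≫ l)) := by
      rw [Spec.map_comp, ← IsOpenImmersion.lift_fac e (Spec.map l) hr, Category.assoc]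
      infer_instance
    have h := (HasRingHomProperty.Spec_iff (P := @LocallyOfFiniteType)).1 ‹_›
    exact RingHom.finiteType_algebraMap.1 h
  choose G hG using fun x => (hft x).out
  choose num hnum using fun x (a : Localization.Away (c x)) =>
    IsLocalization.surj (Submonoid.powers (c x)) a
  let s : Finset C := t.image c ∪ t.biUnion fun x => (G x).image fun a => (num x a).1
  obtain ⟨P, _, _, hfp, hfin, φ, hφ⟩ := exists_fp_finite (B := B) s
  choose y hy using fun x : t => hφ (show c x.1 ∈ (s : Set C) from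
    Finset.mem_union_left _ (Finset.mem_image_of_mem c x.2))
  have hsurj : ∀ x : t, Function.Surjective (Localization.awayMap φ.toRingHom (y x)) := by
    intro x
    rw [Localization.awayMap_surjective_iff]
    intro a
    have hcx : φ.toRingHom (y x) = c x.1 := hy x
    rw [hcx]
    have key : ∀ z : Localization.Away (c x.1), z ∈ Algebra.adjoin B (G x.1 : Set _) →
        ∃ (b : P) (m : ℕ), z * algebraMap C _ (c x.1) ^ m = algebraMap C _ (φ b) := by
      intro z hz
      induction hz using Algebra.adjoin_induction with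
      | mem z hz =>
        obtain ⟨b, hb⟩ := hφ (show (num x.1 z).1 ∈ (s : Set C) from Finset.mem_union_right _
          (Finset.mem_biUnion.2 ⟨x.1, x.2, Finset.mem_image_of_mem (fun a => (num x.1 a).1) hz⟩))
        obtain ⟨m, hm⟩ := (num x.1 z).2.2
        refine ⟨b, m, ?_⟩
        rw [hb, ← map_pow]
        exact (congrArg (fun q => z * algebraMap C _ q) hm).trans (hnum x.1 z)
      | algebraMap r =>
        exact ⟨algebraMap B P r, 0, by rw [pow_zero, mul_one, φ.commutes, ← IsScalarTower.algebraMap_apply]⟩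
      | add z w _ _ hz hw =>
        obtain ⟨b, m, hb⟩ := hz
        obtain ⟨d, n, hd⟩ := hw
        refine ⟨b * y x ^ n + d * y x ^ m, m + n, ?_⟩
        simp only [map_add, map_mul, map_pow, hy x, ← hb, ← hd]
        ring
      | mul z w _ _ hz hw =>
        obtain ⟨b, m, hb⟩ := hz
        obtain ⟨d, n, hd⟩ := hw
        refine ⟨b * d, m + n, ?_⟩
        simp only [map_mul, ← hb, ← hd]
        ring
    obtain ⟨b, m, hb⟩ := key (algebraMap C _ a) (hG x.1 ▸ Algebra.mem_top)
    rw [← map_pow, ← map_mul] at hb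
    obtain ⟨⟨_, k, rfl⟩, hk⟩ := (IsLocalization.eq_iff_exists (Submonoid.powers (c x.1)) _).1 hb
    refine ⟨y x ^ k * b, k + m, ?_⟩
    rw [map_mul, map_pow, hcx, pow_add, AlgHom.toRingHom_eq_coe, RingHom.coe_coe, ← hk]
    ring
  let q : CommRingCat.of P ⟶ C := CommRingCat.ofHom φ.toRingHom
  have hfac : CommRingCat.ofHom (algebraMap B P) ≫ q = g := by
    ext b
    exact φ.commutes b
  refine ⟨Spec (.of P), e ≫ Spec.map q, Spec.map (CommRingCat.ofHom (algebraMap B P)), ?_, ?_, ?_, ?_⟩
  · refine isImmersion_of_restrict _ (fun x : t => PrimeSpectrum.basicOpen (y x)) (fun z => ?_)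
      fun x => ?_
    · obtain ⟨i, hi⟩ := Set.mem_iUnion.1 (ht (Set.mem_univ z))
      obtain ⟨hit, hz⟩ := Set.mem_iUnion.1 hi
      refine ⟨⟨i, hit⟩, ?_⟩
      show φ (y ⟨i, hit⟩) ∉ (e z).asIdeal
      rw [hy]
      exact hz
    · rw [morphismRestrict_comp]
      haveI : IsClosedImmersion (Spec.map q ∣_ PrimeSpectrum.basicOpen (y x)) := by
        refine (MorphismProperty.arrow_mk_iso_iff @IsClosedImmersion (SpecMapRestrictBasicOpenIso q (y x))).2 ?_
        exact IsClosedImmersion.spec_of_surjective _ (hsurj x)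
      infer_instance
  · exact (IsFinite.SpecMap_iff _).2 (RingHom.finite_algebraMap.2 hfin)
  · exact (LocallyOfFinitePresentation.SpecMap_iff _).2 (RingHom.finitePresentation_algebraMap.2 hfp)
  · rw [Category.assoc, ← Spec.map_comp, hfac]

/-- A separated quasi-finite morphism to an affine scheme is an immersion followed by a finite
morphism of finite presentation. -/
theorem exists_immersion_finite {X Y : Scheme.{u}} [IsAffine Y] (f : X ⟶ Y) [LocallyQuasiFinite f]
    [LocallyOfFiniteType f] [IsSeparated f] [QuasiCompact f] :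
    ∃ (Z : Scheme.{u}) (j : X ⟶ Z) (π : Z ⟶ Y), IsImmersion j ∧ IsFinite π ∧
      LocallyOfFinitePresentation π ∧ j ≫ π = f := by
  haveI : CompactSpace X := QuasiCompact.compactSpace_of_compactSpace f
  haveI : IsAffine f.normalization := isAffine_of_isAffineHom f.fromNormalization
  let g := f.fromNormalization.appTop
  let e := f.toNormalization ≫ f.normalization.isoSpec.hom
  have he : e ≫ Spec.map g = f ≫ Y.isoSpec.hom := by
    rw [Category.assoc]
    show f.toNormalization ≫ f.normalization.isoSpec.hom ≫ Spec.map f.fromNormalization.appTop = _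
    rw [Scheme.isoSpec_hom_naturality, Scheme.Hom.toNormalization_fromNormalization_assoc]
  haveI : LocallyOfFiniteType (e ≫ Spec.map g) := by rw [he]; infer_instance
  have hg : g.hom.IsIntegral :=
    ((HasAffineProperty.iff_of_isAffine (P := @IsIntegralHom)).1 inferInstance).2
  obtain ⟨Z, j, π, hj, hπ, hπ', h⟩ := exists_factor_of_integral g hg e
  exact ⟨Z, j, π ≫ Y.isoSpec.inv, hj, inferInstance, inferInstance, by
    rw [← Category.assoc, h, he, Category.assoc, Iso.hom_inv_id, Category.comp_id]⟩

end Groth.Agent.FibreTop
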