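import Groth.Agent.Lib.FibreTop.Constr
import Groth.Agent.Lib.FibreLocus.Fibre
import Mathlib.AlgebraicGeometry.Morphisms.Separated

/-!
# Topological properties in the fibres are constructible
-/

universe u

set_option linter.style.haveILetI false

open CategoryTheory CategoryTheory.Limits AlgebraicGeometry Topology

namespace Groth.Agent.FibreTop

variable {X S : Scheme.{u}} (f : X ⟶ S) [LocallyOfFinitePresentation f] [QuasiCompact f]

theorem isLocallyConstructible_forall_fibre {W : Set X} (hW : IsLocallyConstructible W) :
    IsLocallyConstructible {s : S | ∀ x, f x = s → x ∈ W} := by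
  have : {s : S | ∀ x, f x = s → x ∈ W} = (f '' Wᶜ)ᶜ := by
    ext s
    refine ⟨fun h ⟨x, hx, hxs⟩ => hx (h x hxs), fun h x hxs => by_contra fun hx => h ⟨x, hx, hxs⟩⟩
  rw [this]
  exact AnPtsTop.isLocallyConstructible_compl
    (f.isLocallyConstructible_image (AnPtsTop.isLocallyConstructible_compl hW))

variable {f}

theorem isLocallyConstructible_imp {A B : Set X} (hA : IsLocallyConstructible A)
    (hB : IsLocallyConstructible B) : IsLocallyConstructible {x | x ∈ A → x ∈ B} := by
  have : {x : X | x ∈ A → x ∈ B} = (A ∩ Bᶜ)ᶜ := by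
    ext x
    simp [not_and_or, imp_iff_not_or]
  rw [this]
  exact AnPtsTop.isLocallyConstructible_compl (hA.inter (AnPtsTop.isLocallyConstructible_compl hB))

theorem isLocallyConstructible_setOf_dense {Z Z' : Set X} (hZ : IsLocallyConstructible Z)
    (hZ' : IsLocallyConstructible Z') :
    IsLocallyConstructible {s : S | Z' ∩ f ⁻¹' {s} ⊆ closure (Z ∩ f ⁻¹' {s})} := by
  simp only [dense_fibre_iff]
  exact isLocallyConstructible_forall_fibre f
    (isLocallyConstructible_imp hZ' (isLocallyConstructible_fibClosure f hZ))

theorem isLocallyConstructible_setOf_isClosed {Z : Set X} (hZ : IsLocallyConstructible Z) :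
    IsLocallyConstructible {s : S | IsClosed (Subtype.val ⁻¹' Z : Set ↥(f ⁻¹' {s}))} := by
  simp only [isClosed_fibre_iff]
  exact isLocallyConstructible_forall_fibre f
    (isLocallyConstructible_imp (isLocallyConstructible_fibClosure f hZ) hZ)

theorem isLocallyConstructible_setOf_isOpen {Z : Set X} (hZ : IsLocallyConstructible Z) :
    IsLocallyConstructible {s : S | IsOpen (Subtype.val ⁻¹' Z : Set ↥(f ⁻¹' {s}))} := by
  simp only [← isClosed_compl_iff, ← Set.preimage_compl]
  exact isLocallyConstructible_setOf_isClosed (AnPtsTop.isLocallyConstructible_compl hZ)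

theorem isLocallyConstructible_setOf_isLocallyClosed {Z : Set X} (hZ : IsLocallyConstructible Z) :
    IsLocallyConstructible {s : S | IsLocallyClosed (Subtype.val ⁻¹' Z : Set ↥(f ⁻¹' {s}))} := by
  simp only [isLocallyClosed_fibre_iff]
  have h1 : IsLocallyConstructible (fibClosure f Z \ Z) :=
    (isLocallyConstructible_fibClosure f hZ).inter (AnPtsTop.isLocallyConstructible_compl hZ)
  exact isLocallyConstructible_forall_fibre f (isLocallyConstructible_imp hZ
    (AnPtsTop.isLocallyConstructible_compl (isLocallyConstructible_fibClosure f h1)))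

omit f in
theorem forall_mem_preimage_closure_iff {W X S : Scheme.{u}} (h : X ⟶ S) (m : W ⟶ X) [IsPreimmersion m]
    (s : S) (hrange : Set.range m = h ⁻¹' {s}) (Z : Set X) (p : X → Prop) :
    (∀ w, w ∈ closure (m ⁻¹' Z) → p (m w)) ↔ ∀ x, h x = s → x ∈ fibClosure h Z → p x := by
  have key : ∀ w, w ∈ closure (m ⁻¹' Z) ↔ m w ∈ fibClosure h Z := fun w => by
    rw [m.isEmbedding.closure_eq_preimage_closure_image, Set.mem_preimage,
      Set.image_preimage_eq_inter_range, hrange, mem_fibClosure,
      show h (m w) = s from hrange.le ⟨w, rfl⟩]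
  refine ⟨fun H x hx hxC => ?_, fun H w hw => H _ (hrange.le ⟨w, rfl⟩) ((key w).1 hw)⟩
  obtain ⟨w, rfl⟩ := hrange.ge hx
  exact H w ((key w).2 hxC)

omit f in
theorem isSeparated_fibre_iff {X Y S : Scheme.{u}} (f : X ⟶ Y) (g : Y ⟶ S) (s : S) :
    IsSeparated (pullback.snd f (g.fiberι s)) ↔
      ∀ z, (pullback.fst f f ≫ f ≫ g) z = s →
        z ∈ fibClosure (pullback.fst f f ≫ f ≫ g) (Set.range (pullback.diagonal f)) →
        z ∈ Set.range (pullback.diagonal f) := by
  let ι := g.fiberι s
  let b := pullback.snd f ι
  let m : pullback b b ⟶ pullback f f := pullback.lift (pullback.fst b b ≫ pullback.fst f ι)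
    (pullback.snd b b ≫ pullback.fst f ι) (by
      rw [Category.assoc, Category.assoc, pullback.condition]
      exact pullback.condition_assoc (f := b) (g := b) ι)
  have hX := IsPullback.of_hasPullback f ι
  have htop : IsPullback m (pullback.fst b b) (pullback.fst f f) (pullback.fst f ι) := by
    refine IsPullback.of_right ?_ (pullback.lift_fst _ _ _) (IsPullback.of_hasPullback f f).flip
    rw [show m ≫ pullback.snd f f = pullback.snd b b ≫ pullback.fst f ι from pullback.lift_snd _ _ _,
      pullback.condition]
    exact (IsPullback.of_hasPullback b b).flip.paste_horiz hX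
  have hm : IsPullback m (pullback.fst b b ≫ b) (pullback.fst f f ≫ f) ι := htop.paste_vert hX
  haveI : IsPreimmersion m := MorphismProperty.of_isPullback hm.flip inferInstance
  have hrange : Set.range m = (pullback.fst f f ≫ f ≫ g) ⁻¹' {s} := by
    rw [FibreLocus.range_eq_preimage_of_isPullback hm, Scheme.Hom.range_fiberι]
    rfl
  have hΔm : pullback.diagonal b ≫ m = pullback.fst f ι ≫ pullback.diagonal f := by
    apply pullback.hom_ext <;> simp [m, pullback.lift_fst, pullback.lift_snd]
  have hpre : m ⁻¹' Set.range (pullback.diagonal f) = Set.range (pullback.diagonal b) := by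
    ext w
    constructor
    · rintro ⟨x, hx⟩
      have hxs : f x ∈ Set.range ι := by
        rw [Scheme.Hom.range_fiberι, Set.mem_preimage,
          ← show (pullback.fst f f ≫ f ≫ g) (m w) = s from hrange.le ⟨w, rfl⟩, ← hx,
          ← Scheme.Hom.comp_apply (pullback.diagonal f), pullback.diagonal_fst_assoc]
        rfl
      obtain ⟨y, hy⟩ := hxs
      obtain ⟨x', hx', -⟩ := Scheme.Pullback.exists_preimage_pullback (f := f) (g := ι) x y hy.symm
      refine ⟨x', m.isEmbedding.injective ?_⟩
      rw [← hx, ← hx', ← Scheme.Hom.comp_apply, ← Scheme.Hom.comp_apply, hΔm]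
    · rintro ⟨x', rfl⟩
      exact ⟨pullback.fst f ι x', by rw [← Scheme.Hom.comp_apply, ← Scheme.Hom.comp_apply, hΔm]⟩
  rw [show IsSeparated (pullback.snd f (g.fiberι s)) ↔ IsClosed (Set.range (pullback.diagonal b)) from
    ⟨fun h => (pullback.diagonal b).isClosedEmbedding.isClosed_range,
      fun h => ⟨.of_isPreimmersion _ h⟩⟩, ← hpre, ← closure_subset_iff_isClosed]
  exact forall_mem_preimage_closure_iff (pullback.fst f f ≫ f ≫ g) m s hrange
    (Set.range (pullback.diagonal f)) (· ∈ Set.range (pullback.diagonal f))

omit f in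
theorem isLocallyConstructible_setOf_fibre_isSeparated {X Y S : Scheme.{u}} (f : X ⟶ Y) (g : Y ⟶ S)
    [LocallyOfFinitePresentation g] [QuasiSeparated g]
    [LocallyOfFinitePresentation (f ≫ g)] [QuasiCompact (f ≫ g)] [QuasiSeparated (f ≫ g)] :
    IsLocallyConstructible {s : S | IsSeparated (pullback.snd f (g.fiberι s))} := by
  haveI := SchBasic.locallyOfFinitePresentation_of_comp f g
  haveI : QuasiCompact f := QuasiCompact.of_comp f g
  haveI : QuasiSeparated f := QuasiSeparated.of_comp f g
  haveI : LocallyOfFinitePresentation (pullback.diagonal f) :=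
    haveI : LocallyOfFinitePresentation (pullback.diagonal f ≫ pullback.fst f f) := by
      rw [pullback.diagonal_fst]; infer_instance
    SchBasic.locallyOfFinitePresentation_of_comp (pullback.diagonal f) (pullback.fst f f)
  have hZ : IsLocallyConstructible (Set.range (pullback.diagonal f)) := by
    rw [← Set.image_univ]
    exact (pullback.diagonal f).isLocallyConstructible_image IsLocallyConstructible.univ
  simp only [isSeparated_fibre_iff]
  exact isLocallyConstructible_forall_fibre (pullback.fst f f ≫ f ≫ g)
    (isLocallyConstructible_imp (isLocallyConstructible_fibClosure _ hZ) hZ)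

omit f in
theorem isLocallyConstructible_setOf_fibre_isDominant {X Y S : Scheme.{u}} (f : X ⟶ Y) (g : Y ⟶ S)
    [LocallyOfFinitePresentation g] [QuasiCompact g] [QuasiSeparated g]
    [LocallyOfFinitePresentation (f ≫ g)] [QuasiCompact (f ≫ g)] :
    IsLocallyConstructible {s : S | IsDominant (pullback.snd f (g.fiberι s))} := by
  haveI := SchBasic.locallyOfFinitePresentation_of_comp f g
  haveI : QuasiCompact f := QuasiCompact.of_comp f g
  have hZ : IsLocallyConstructible (Set.range f) := by
    rw [← Set.image_univ]
    exact f.isLocallyConstructible_image IsLocallyConstructible.univ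
  have : {s : S | IsDominant (pullback.snd f (g.fiberι s))} =
      {s : S | ∀ y, g y = s → y ∈ fibClosure g (Set.range f)} := by
    ext s
    have hr : Set.range (pullback.snd f (g.fiberι s)) = g.fiberι s ⁻¹' Set.range f :=
      FibreLocus.range_eq_preimage_of_isPullback (IsPullback.of_hasPullback f (g.fiberι s)).flip
    rw [Set.mem_ofPred_eq, Set.mem_ofPred_eq, isDominant_iff, DenseRange, hr, dense_iff_closure_eq,
      (g.fiberι s).isEmbedding.closure_eq_preimage_closure_image, Set.eq_univ_iff_forall]
    simp only [Set.mem_preimage, Set.image_preimage_eq_inter_range, Scheme.Hom.range_fiberι]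
    refine ⟨fun H y hy => ?_, fun H w => ?_⟩
    · obtain ⟨w, rfl⟩ := (Scheme.Hom.range_fiberι g s).ge hy
      rw [mem_fibClosure, hy]
      exact H w
    · have hw : g (g.fiberι s w) = s := (Scheme.Hom.range_fiberι g s).le ⟨w, rfl⟩
      have := H _ hw
      rwa [mem_fibClosure, hw] at this
  rw [this]
  exact isLocallyConstructible_forall_fibre g (isLocallyConstructible_fibClosure g hZ)

end Groth.Agent.FibreTop
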