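import Groth.Agent.Lib.FibreTop.Apps
import Mathlib.Topology.Spectral.ConstructibleTopology
import Mathlib.RingTheory.Spectrum.Prime.ConstructibleSet

/-!
# Constructibility from finitely presented strata
-/

universe u

set_option linter.style.haveILetI false
set_option backward.isDefEq.respectTransparency false

open CategoryTheory CategoryTheory.Limits AlgebraicGeometry Topology

namespace Groth.Agent.FibreTop

/-- The points over which the map of fibres has the property `P`. -/
def fibLocus (P : MorphismProperty Scheme.{u}) {X Y S : Scheme.{u}} (f : X ⟶ Y) (g : Y ⟶ S) : Set S :=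
  {s | P (pullback.snd f (g.fiberι s))}

theorem isIso_residueFieldMap_of_isPreimmersion {T S : Scheme.{u}} (τ : T ⟶ S) [IsPreimmersion τ]
    (t : T) : IsIso (τ.residueFieldMap t) := by
  rw [ConcreteCategory.isIso_iff_bijective]
  refine ⟨(τ.residueFieldMap t).hom.injective, fun x => ?_⟩
  obtain ⟨x, rfl⟩ := T.residue_surjective t x
  obtain ⟨y, rfl⟩ := τ.stalkMap_surjective t x
  exact ⟨S.residue _ y, congrArg (fun m => m y) (Scheme.residue_residueFieldMap τ t)⟩

/-- The locus is compatible with base change along a preimmersion. -/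
theorem fibLocus_preimage (P : MorphismProperty Scheme.{u}) [P.RespectsIso] {X Y S T : Scheme.{u}}
    (f : X ⟶ Y) (g : Y ⟶ S) (τ : T ⟶ S) [IsPreimmersion τ] :
    τ ⁻¹' fibLocus P f g =
      fibLocus P (pullback.snd f (pullback.fst g τ)) (pullback.snd g τ) := by
  ext t
  let g' := pullback.snd g τ
  let f' := pullback.snd f (pullback.fst g τ)
  let k := Spec.map (τ.residueFieldMap t)
  haveI := isIso_residueFieldMap_of_isPreimmersion τ t
  haveI : IsIso k := inferInstanceAs (IsIso (Spec.map _))
  have hk : k ≫ S.fromSpecResidueField (τ t) = T.fromSpecResidueField t ≫ τ :=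
    Scheme.Hom.SpecMap_residueFieldMap_fromSpecResidueField τ t
  have h1 : IsPullback (g'.fiberι t ≫ pullback.fst g τ) (g'.fiberToSpecResidueField t) g
      (k ≫ S.fromSpecResidueField (τ t)) := by
    rw [hk]
    exact (IsPullback.of_hasPullback g' (T.fromSpecResidueField t)).paste_horiz
      (IsPullback.of_hasPullback g τ)
  let e : g'.fiber t ⟶ g.fiber (τ t) :=
    pullback.lift (g'.fiberι t ≫ pullback.fst g τ) (g'.fiberToSpecResidueField t ≫ k)
      (by rw [Category.assoc _ k]; exact h1.w)
  have he : IsPullback e (g'.fiberToSpecResidueField t) (g.fiberToSpecResidueField (τ t)) k :=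
    IsPullback.of_right (by rw [pullback.lift_fst]; exact h1) (pullback.lift_snd _ _ _)
      (IsPullback.of_hasPullback g (S.fromSpecResidueField (τ t)))
  haveI : IsIso e := he.isIso_fst_of_isIso
  have h2 : IsPullback (pullback.fst f' (g'.fiberι t) ≫ pullback.fst f (pullback.fst g τ))
      (pullback.snd f' (g'.fiberι t)) f (g'.fiberι t ≫ pullback.fst g τ) :=
    (IsPullback.of_hasPullback f' (g'.fiberι t)).paste_horiz (IsPullback.of_hasPullback f _)
  let e' : pullback f' (g'.fiberι t) ⟶ pullback f (g.fiberι (τ t)) :=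
    pullback.lift _ (pullback.snd f' (g'.fiberι t) ≫ e)
      (h2.w.trans (by rw [Category.assoc]; congr 1; exact (pullback.lift_fst _ _ _).symm))
  have he' : IsPullback e' (pullback.snd f' (g'.fiberι t)) (pullback.snd f (g.fiberι (τ t))) e := by
    refine IsPullback.of_right ?_ (pullback.lift_snd _ _ _)
      (IsPullback.of_hasPullback f (g.fiberι (τ t)))
    rw [pullback.lift_fst, show e ≫ g.fiberι (τ t) = g'.fiberι t ≫ pullback.fst g τ from
      pullback.lift_fst _ _ _]
    exact h2
  haveI : IsIso e' := he'.isIso_fst_of_isIso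
  show P (pullback.snd f (g.fiberι (τ t))) ↔ P (pullback.snd f' (g'.fiberι t))
  rw [← P.cancel_left_of_respectsIso e', he'.w, P.cancel_right_of_respectsIso]

theorem isOpen_constructibleTopology_toSet {R : Type u} [CommRing R]
    (d : PrimeSpectrum.BasicConstructibleSetData R) :
    IsOpen[constructibleTopology (PrimeSpectrum R)] d.toSet := by
  rw [PrimeSpectrum.BasicConstructibleSetData.toSet, Set.sdiff_eq]
  refine @IsOpen.inter _ (constructibleTopology _) _ _ ?_ ?_
  · refine IsCompact.isOpen_constructibleTopology_of_isClosed ?_ (PrimeSpectrum.isClosed_zeroLocus _)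
    rw [← PrimeSpectrum.zeroLocus_span]
    exact PrimeSpectrum.isRetrocompact_zeroLocus_compl (Set.finite_range d.g)
      |>.isCompact |> fun h => by simpa using h
  · refine IsCompact.isOpen_constructibleTopology_of_isOpen ?_ ?_
    · rw [← PrimeSpectrum.basicOpen_eq_zeroLocus_compl]
      exact PrimeSpectrum.isCompact_basicOpen d.f
    · exact (PrimeSpectrum.isClosed_zeroLocus _).isOpen_compl

theorem exists_finite_cover_of_toSet {R : Type u} [CommRing R]
    (d : PrimeSpectrum R → PrimeSpectrum.BasicConstructibleSetData R) (h : ∀ p, p ∈ (d p).toSet) :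
    ∃ t : Finset (PrimeSpectrum R), ∀ q, ∃ p ∈ t, q ∈ (d p).toSet := by
  have hc : CompactSpace (WithConstructibleTopology (PrimeSpectrum R)) := inferInstance
  obtain ⟨t, ht⟩ := hc.isCompact_univ.elim_finite_subcover
    (fun p : PrimeSpectrum R => WithTopology.ofTopology ⁻¹' (d p).toSet)
    (fun p => (WithConstructibleTopology.isOpen_iff).2 (isOpen_constructibleTopology_toSet (d p)))
    (fun q _ => Set.mem_iUnion.2 ⟨WithTopology.ofTopology q, h _⟩)
  refine ⟨t, fun q => ?_⟩
  obtain ⟨p, hp⟩ := Set.mem_iUnion.1 (ht (Set.mem_univ (WithTopology.toTopology _ q)))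
  obtain ⟨hpt, hq⟩ := Set.mem_iUnion.1 hp
  exact ⟨p, hpt, hq⟩

/-- A basic constructible set is the image of an immersion of finite presentation. -/
theorem exists_immersion_range_eq {A : CommRingCat.{u}} (d : PrimeSpectrum.BasicConstructibleSetData A) :
    ∃ (B : CommRingCat.{u}) (τ : Spec B ⟶ Spec A), IsPreimmersion τ ∧ LocallyOfFinitePresentation τ ∧
      Set.range τ = d.toSet := by
  let I := Ideal.span (Set.range d.g)
  let a := Ideal.Quotient.mk I d.f
  let q : A ⟶ CommRingCat.of (A ⧸ I) := CommRingCat.ofHom (Ideal.Quotient.mk I)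
  let l : CommRingCat.of (A ⧸ I) ⟶ CommRingCat.of (Localization.Away a) :=
    CommRingCat.ofHom (algebraMap (A ⧸ I) (Localization.Away a))
  haveI : IsClosedImmersion (Spec.map q) :=
    IsClosedImmersion.spec_of_surjective _ Ideal.Quotient.mk_surjective
  haveI : IsOpenImmersion (Spec.map l) := IsOpenImmersion.of_isLocalization a
  haveI : LocallyOfFinitePresentation (Spec.map q) :=
    (LocallyOfFinitePresentation.SpecMap_iff _).2
      (RingHom.FinitePresentation.of_surjective _ Ideal.Quotient.mk_surjective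
        (by rw [CommRingCat.hom_ofHom, Ideal.mk_ker]; exact ⟨(Set.finite_range d.g).toFinset, by simp [I]⟩))
  refine ⟨_, Spec.map l ≫ Spec.map q, inferInstance, inferInstance, ?_⟩
  show Set.range (PrimeSpectrum.comap (Ideal.Quotient.mk I) ∘
    PrimeSpectrum.comap (algebraMap (A ⧸ I) (Localization.Away a))) = _
  rw [Set.range_comp, PrimeSpectrum.localization_away_comap_range _ a, ← PrimeSpectrum.comap_basicOpen,
    TopologicalSpace.Opens.coe_comap, ContinuousMap.coe_mk, Set.image_preimage_eq_inter_range,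
    range_comap_of_surjective _ _ Ideal.Quotient.mk_surjective,
    PrimeSpectrum.BasicConstructibleSetData.toSet, Set.sdiff_eq_compl_inter,
    PrimeSpectrum.basicOpen_eq_zeroLocus_compl, Ideal.mk_ker, PrimeSpectrum.zeroLocus_span]

/-- A subset is locally constructible if, affine locally and around each point, it is so on some
stratum. -/
theorem isLocallyConstructible_of_strata {S : Scheme.{u}} {E : Set S}
    (hE : ∀ (A : CommRingCat.{u}) (σ : Spec A ⟶ S) (_ : IsOpenImmersion σ) (p : Spec A),
      ∃ C : Set (Spec A), IsConstructible C ∧ p ∈ C ∧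
        ∀ (B : CommRingCat.{u}) (τ : Spec B ⟶ Spec A), IsPreimmersion τ →
          LocallyOfFinitePresentation τ → Set.range τ ⊆ C →
          IsLocallyConstructible ((τ ≫ σ) ⁻¹' E)) :
    IsLocallyConstructible E := by
  classical
  have key : ∀ (A : CommRingCat.{u}) (σ : Spec A ⟶ S) (_ : IsOpenImmersion σ),
      IsConstructible (σ ⁻¹' E) := by
    intro A σ hσ
    choose C hC hpC hCE using hE A σ hσ
    have hd : ∀ p, ∃ d : PrimeSpectrum.BasicConstructibleSetData A, p ∈ d.toSet ∧ d.toSet ⊆ C p := by
      intro p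
      obtain ⟨D, hD⟩ := PrimeSpectrum.exists_constructibleSetData_iff.2 (hC p)
      have hp := hpC p
      rw [← hD, PrimeSpectrum.ConstructibleSetData.toSet] at hp
      obtain ⟨d, hdD, hpd⟩ := Set.mem_iUnion₂.1 hp
      refine ⟨d, hpd, ?_⟩
      rw [← hD]
      exact fun q hq => Set.mem_iUnion₂.2 ⟨d, hdD, hq⟩
    choose d hpd hdC using hd
    choose B τ hτ hτf hr using fun p => exists_immersion_range_eq (d p)
    obtain ⟨t, ht⟩ := exists_finite_cover_of_toSet d hpd
    have : σ ⁻¹' E = ⋃ p ∈ t, τ p '' ((τ p ≫ σ) ⁻¹' E) := by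
      ext q
      simp only [Set.mem_iUnion, Set.mem_preimage, Set.mem_image]
      constructor
      · intro hq
        obtain ⟨p, hpt, hqp⟩ := ht q
        obtain ⟨x, hx⟩ := (hr p).ge hqp
        exact ⟨p, hpt, x, by rw [Scheme.Hom.comp_apply, hx]; exact hq, hx⟩
      · rintro ⟨p, -, x, hx, rfl⟩
        rwa [Scheme.Hom.comp_apply] at hx
    rw [this]
    refine IsConstructible.biUnion t.finite_toSet fun p _ => ?_
    haveI := hτ p
    haveI := hτf p
    exact ((τ p).isLocallyConstructible_image
      (hCE p (B p) (τ p) (hτ p) (hτf p) ((hr p).le.trans (hdC p)))).isConstructible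
  have hloc : ∀ x : S, ∃ V : S.Opens, x ∈ V ∧
      IsLocallyConstructible ((Subtype.val : ↥(V : Set S) → S) ⁻¹' E) := by
    intro x
    obtain ⟨U, hU, hxU, -⟩ :=
      exists_isAffineOpen_mem_and_subset (X := S) (x := x) (U := ⊤) trivial
    refine ⟨U, hxU, ?_⟩
    have h2 := (key _ hU.fromSpec inferInstance).preimage_of_isOpenEmbedding hU.isoSpec.hom.isOpenEmbedding
    refine IsConstructible.isLocallyConstructible (X := ↥(U : Set S)) ?_
    refine (congrArg IsConstructible (Set.ext ?_)).mp h2
    rintro ⟨y, hy⟩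
    show hU.fromSpec (hU.isoSpec.hom ⟨y, hy⟩) ∈ E ↔ y ∈ E
    rw [← Scheme.Hom.comp_apply, IsAffineOpen.isoSpec_hom_fromSpec]
    rfl
  choose V hxV hV using hloc
  exact .of_isOpenCover (TopologicalSpace.IsOpenCover.mk (top_le_iff.1 fun x _ =>
    TopologicalSpace.Opens.mem_iSup.2 ⟨x, hxV x⟩)) hV

/-- A constructible subset of a Noetherian fibre agrees there with a quasi-compact open subset,
if it is open in the fibre. -/
theorem exists_open_agree {P S : Scheme.{u}} (h : P ⟶ S) [LocallyOfFiniteType h] [QuasiCompact h]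
    (s : S) (W : Set P) (hW : IsOpen (Subtype.val ⁻¹' W : Set ↥(h ⁻¹' {s}))) [QuasiSeparatedSpace P] :
    ∃ U : P.Opens, IsCompact (U : Set P) ∧ ∀ x, h x = s → (x ∈ U ↔ x ∈ W) := by
  obtain ⟨O, hO, hOW⟩ := isOpen_induced_iff.1 hW
  have hOW' : ∀ x, h x = s → (x ∈ O ↔ x ∈ W) := fun x hx =>
    iff_of_eq (congrFun (congrArg Set.Mem hOW) ⟨x, hx⟩) 
  haveI : CompactSpace (h.fiber s) := inferInstance
  haveI : LocallyOfFiniteType (h.fiberToSpecResidueField s) := MorphismProperty.pullback_snd _ _ inferInstance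
  haveI : IsLocallyNoetherian (h.fiber s) :=
    LocallyOfFiniteType.isLocallyNoetherian (h.fiberToSpecResidueField s)
  haveI : IsNoetherian (h.fiber s) := {}
  haveI : TopologicalSpace.NoetherianSpace (h.fiber s) := inferInstance
  have hc : IsCompact (W ∩ h ⁻¹' {s}) := by
    rw [← Scheme.Hom.range_fiberι h s, ← Set.image_preimage_eq_inter_range]
    exact (TopologicalSpace.NoetherianSpace.isCompact _).image (h.fiberι s).continuous
  have hcov : ∀ x : ↥(W ∩ h ⁻¹' {s}), ∃ U : P.Opens, IsAffineOpen U ∧ x.1 ∈ U ∧ (U : Set P) ⊆ O := by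
    intro x
    exact exists_isAffineOpen_mem_and_subset (X := P) (x := x.1) (U := ⟨O, hO⟩) ((hOW' _ x.2.2).2 x.2.1)
  choose U hU hxU hUO using hcov
  obtain ⟨t, ht⟩ := hc.elim_finite_subcover (fun x => (U x : Set P)) (fun x => (U x).2)
    (fun x hx => Set.mem_iUnion.2 ⟨⟨x, hx⟩, hxU _⟩)
  refine ⟨⨆ x ∈ t, U x, ?_, fun x hx => ?_⟩
  · simp only [TopologicalSpace.Opens.coe_iSup]
    exact t.finite_toSet.isCompact_biUnion fun x _ => (hU x).isCompact
  · refine ⟨fun hxU' => ?_, fun hxW => ?_⟩
    · simp only [TopologicalSpace.Opens.mem_iSup] at hxU'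
      obtain ⟨i, -, hi⟩ := hxU'
      exact (hOW' x hx).1 (hUO i hi)
    · have := ht ⟨hxW, hx⟩
      simpa [TopologicalSpace.Opens.mem_iSup] using this

end Groth.Agent.FibreTop
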