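import Groth.Agent.Lib.FibreTop.Basic
import Groth.Agent.Lib.FibreLocus.Constr
import Groth.Agent.Lib.FlatH4.GenFreeMain
import Groth.Agent.Lib.FlatH4.FibreModels
import Mathlib.RingTheory.Flat.EquationalCriterion
import Mathlib.RingTheory.Spectrum.Prime.ConstructibleSet

/-!
# Closure in the fibres of a constructible set is constructible
-/

universe u

set_option linter.style.haveILetI false

open CategoryTheory CategoryTheory.Limits AlgebraicGeometry Topology TensorProduct

namespace Groth.Agent.FibreTop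

theorem exists_pow_mul_mem_of_mem_minimalPrimes {R : Type u} [CommRing R] {J q : Ideal R}
    (hq : q ∈ J.minimalPrimes) {x : R} (hx : x ∈ q) : ∃ n : ℕ, ∃ d ∉ q, x ^ n * d ∈ J := by
  haveI := hq.1.1
  by_contra h
  push Not at h
  let T : Submonoid R := Submonoid.powers x ⊔ q.primeCompl
  have hdisj : Disjoint (J : Set R) (T : Set R) := by
    rw [Set.disjoint_left]
    rintro _ hzJ hzT
    obtain ⟨_, ⟨n, rfl⟩, d, hd, rfl⟩ := Submonoid.mem_sup.1 hzT
    exact h n d hd hzJ
  obtain ⟨P, hP, hJP, hPT⟩ := Ideal.exists_le_prime_disjoint J T hdisj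
  have hPq : P ≤ q := fun z hz => by_contra fun hzq =>
    Set.disjoint_left.1 hPT hz (Submonoid.mem_sup_right (show z ∈ q.primeCompl from hzq))
  have hxP : x ∉ P := fun hxP =>
    Set.disjoint_left.1 hPT hxP (Submonoid.mem_sup_left (Submonoid.mem_powers x))
  exact hxP (hq.2 ⟨hP, hJP⟩ hPq hx)

/-- Flatness of `D / f D` over `R` after inverting `a` makes `f` regular modulo `p` up to powers of `a`. -/
theorem exists_pow_mul_mem_map {R D : Type u} [CommRing R] [CommRing D] [IsDomain D] [Algebra R D]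
    {f : D} (hf : f ≠ 0) {a : R}
    (hflat : Module.Flat R (Localization.Away a ⊗[R] (D ⧸ Ideal.span {f})))
    (p : Ideal R) {d : D} (hd : f * d ∈ p.map (algebraMap R D)) :
    ∃ k : ℕ, algebraMap R D a ^ k * d ∈ p.map (algebraMap R D) := by
  classical
  rw [Ideal.map, Ideal.span, Submodule.mem_span_image_iff_exists_fun] at hd
  obtain ⟨t, htp, c, hc⟩ := hd
  let M := D ⧸ Ideal.span {f}
  let R' := Localization.Away a
  let l : M →ₗ[R] R' ⊗[R] M := TensorProduct.mk R R' M 1
  haveI : IsLocalizedModule (Submonoid.powers a) l :=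
    (isLocalizedModule_iff_isBaseChange (Submonoid.powers a) R' l).2 (TensorProduct.isBaseChange R M R')
  have hsum : ∑ i : t, (i : R) • l (Ideal.Quotient.mk _ (c i)) = 0 := by
    simp_rw [← map_smul, ← map_sum, Algebra.smul_def]
    have h0 : ∑ i : t, algebraMap R M (i : R) * Ideal.Quotient.mk _ (c i) =
        Ideal.Quotient.mk (Ideal.span {f}) (f * d) := by
      rw [← hc, map_sum]
      refine Finset.sum_congr rfl fun i _ => ?_
      rw [smul_eq_mul, map_mul, mul_comm (algebraMap R M (i : R))]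
      rfl
    rw [h0, map_mul, Ideal.Quotient.eq_zero_iff_mem.2 (Ideal.mem_span_singleton_self f), zero_mul,
      map_zero]
  obtain ⟨n, b, y, hy, hb⟩ := Module.Flat.isTrivialRelation_of_sum_smul_eq_zero hsum
  choose mz hz using fun j => IsLocalizedModule.surj (Submonoid.powers a) l (y j)
  let m := fun j => (mz j).1
  let z := fun j => (mz j).2
  -- clear denominators
  let s : R := ∏ j, ((z j : Submonoid.powers a) : R)
  have hs : ∀ j, ∃ w : M, s • y j = l w := fun j => ⟨(∏ i ∈ Finset.univ.erase j, ((z i : Submonoid.powers a) : R)) • m j, by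
    rw [map_smul, ← hz j, Submonoid.smul_def, smul_smul]
    congr 1
    exact (Finset.prod_erase_mul _ _ (Finset.mem_univ j)).symm⟩
  choose w hw using hs
  choose wD hwD using fun j => Ideal.Quotient.mk_surjective (w j)
  have hi : ∀ i : t, ∃ u ∈ Submonoid.powers a, ∃ e : D,
      algebraMap R D (u * s) * c i = algebraMap R D u * ∑ j, algebraMap R D (b i j) * wD j + f * e := by
    intro i
    have h1 : l (s • Ideal.Quotient.mk _ (c i)) = l (∑ j, b i j • w j) := by
      rw [map_smul, show l (Ideal.Quotient.mk _ (c i)) = _ from hy i, map_sum, Finset.smul_sum]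
      refine Finset.sum_congr rfl fun j _ => ?_
      rw [smul_comm, hw, map_smul]
    obtain ⟨⟨u, hu⟩, hu'⟩ := (IsLocalizedModule.eq_iff_exists (Submonoid.powers a) l).1 h1
    refine ⟨u, hu, ?_⟩
    have h2 : Ideal.Quotient.mk (Ideal.span {f}) (algebraMap R D (u * s) * c i) =
        Ideal.Quotient.mk (Ideal.span {f}) (algebraMap R D u * ∑ j, algebraMap R D (b i j) * wD j) := by
      rw [Submonoid.smul_def, Submonoid.smul_def, smul_smul, Finset.smul_sum] at hu'
      simp only [map_mul, map_sum, hwD, Finset.mul_sum]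
      refine (Eq.trans ?_ (hu'.trans ?_))
      · rw [Algebra.smul_def, map_mul]; rfl
      · refine Finset.sum_congr rfl fun j _ => ?_
        rw [smul_smul, Algebra.smul_def, map_mul, mul_assoc]; rfl
    obtain ⟨e, he⟩ := Ideal.mem_span_singleton'.1 (Ideal.Quotient.eq.1 h2)
    exact ⟨e, by rw [mul_comm f, he]; ring⟩
  choose u hu e he using hi
  let U : R := ∏ i, u i
  obtain ⟨k, hk⟩ : U * s ∈ Submonoid.powers a :=
    mul_mem (prod_mem fun i _ => hu i) (prod_mem fun j _ => (z j).2)
  refine ⟨k, ?_⟩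
  -- multiply the relation by `U * s`
  have hv : ∀ i : t, algebraMap R D (U * s) * c i = algebraMap R D U * ∑ j, algebraMap R D (b i j) * wD j +
      f * (algebraMap R D (∏ i' ∈ Finset.univ.erase i, u i') * e i) := fun i => by
    have hU : U = (∏ i' ∈ Finset.univ.erase i, u i') * u i :=
      (Finset.prod_erase_mul _ _ (Finset.mem_univ i)).symm
    rw [hU, mul_assoc, map_mul, mul_assoc, he i, map_mul, mul_add]
    ring
  have hmain : f * (algebraMap R D (U * s) * d) =
      f * ∑ i : t, algebraMap R D (i : R) * (algebraMap R D (∏ i' ∈ Finset.univ.erase i, u i') * e i) := by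
    calc f * (algebraMap R D (U * s) * d) = algebraMap R D (U * s) * (f * d) := by ring
      _ = ∑ i : t, algebraMap R D (i : R) * (algebraMap R D (U * s) * c i) := by
          rw [← hc, Finset.mul_sum]
          refine Finset.sum_congr rfl fun i _ => ?_
          rw [smul_eq_mul]; ring
      _ = ∑ i : t, algebraMap R D (i : R) * (algebraMap R D U * ∑ j, algebraMap R D (b i j) * wD j +
          f * (algebraMap R D (∏ i' ∈ Finset.univ.erase i, u i') * e i)) :=
          Finset.sum_congr rfl fun i _ => by rw [hv i]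
      _ = algebraMap R D U * ∑ j, (∑ i : t, algebraMap R D ((i : R) * b i j)) * wD j +
          f * ∑ i : t, algebraMap R D (i : R) * (algebraMap R D (∏ i' ∈ Finset.univ.erase i, u i') * e i) := by
          simp only [mul_add, Finset.sum_add_distrib, Finset.mul_sum, Finset.sum_mul, map_mul]
          congr 1
          · rw [Finset.sum_comm]
            exact Finset.sum_congr rfl fun j _ => Finset.sum_congr rfl fun i _ => by ring
          · exact Finset.sum_congr rfl fun i _ => by ring
      _ = _ := by simp only [← map_sum, hb, map_zero, zero_mul, Finset.sum_const_zero, mul_zero, zero_add]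
  rw [← map_pow, show a ^ k = U * s from hk, mul_left_cancel₀ hf hmain]
  exact Ideal.sum_mem _ fun i _ => Ideal.mul_mem_right _ _ (Ideal.mem_map_of_mem _ (htp i.2))

/-- Generic behaviour of the closure of a basic open in the fibres over an integral base. -/
theorem exists_generic_mem_fibClosure {R C : Type u} [CommRing R] [CommRing C] [Algebra R C]
    [IsNoetherianRing R] [Algebra.FiniteType R C] (I : Ideal R) [I.IsPrime] (f : C) :
    ∃ a ∉ I, ∀ x : PrimeSpectrum C, I ≤ x.asIdeal.comap (algebraMap R C) →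
      algebraMap R C a ∉ x.asIdeal →
      (x ∈ fibClosure (PrimeSpectrum.comap (algebraMap R C)) (PrimeSpectrum.basicOpen f : Set (PrimeSpectrum C)) ↔
        ∃ q ∈ (I.map (algebraMap R C)).minimalPrimes, f ∉ q ∧ q ≤ x.asIdeal) := by
  classical
  haveI : IsNoetherianRing C := Algebra.FiniteType.isNoetherianRing R C
  have key : ∀ q ∈ (I.map (algebraMap R C)).minimalPrimes, ∃ a ∉ I,
      f ∈ q ∨ ∀ x : PrimeSpectrum C, algebraMap R C a ∉ x.asIdeal → q ≤ x.asIdeal →
        x ∈ fibClosure (PrimeSpectrum.comap (algebraMap R C)) (PrimeSpectrum.basicOpen f : Set (PrimeSpectrum C)) := by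
    intro q hq
    by_cases hfq : f ∈ q
    · exact ⟨1, fun h => Ideal.IsPrime.ne_top' ((Ideal.eq_top_iff_one I).2 h), Or.inl hfq⟩
    haveI := hq.1.1
    by_cases hIq : q.comap (algebraMap R C) ≤ I
    swap
    · obtain ⟨a, haq, haI⟩ := SetLike.not_le_iff_exists.1 hIq
      exact ⟨a, haI, Or.inr fun x hxa hqx => (hxa (hqx haq)).elim⟩
    have hIq' : q.comap (algebraMap R C) = I := le_antisymm hIq (Ideal.le_comap_map.trans (Ideal.comap_mono hq.1.2))
    let R₁ := R ⧸ I
    let D := C ⧸ q
    letI : Algebra R₁ D := (Ideal.quotientMap q (algebraMap R C) hIq'.ge).toAlgebra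
    haveI : IsScalarTower R R₁ D := IsScalarTower.of_algebraMap_eq fun r => rfl
    haveI : Algebra.FiniteType R₁ D := Algebra.FiniteType.of_restrictScalars_finiteType R R₁ D
    let f₁ : D := Ideal.Quotient.mk q f
    have hf₁ : f₁ ≠ 0 := fun h => hfq (Ideal.Quotient.eq_zero_iff_mem.1 h)
    haveI : Algebra.FiniteType R₁ (D ⧸ Ideal.span {f₁}) := inferInstance
    obtain ⟨a₁, ha₁, hfree⟩ := FlatH4.exists_free_and_finitePresentation (R := R₁) (S := D ⧸ Ideal.span {f₁})
    obtain ⟨a, rfl⟩ := Ideal.Quotient.mk_surjective a₁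
    refine ⟨a, fun h => ha₁ (Ideal.Quotient.eq_zero_iff_mem.2 h), Or.inr fun x hxa hqx => ?_⟩
    let A₁ := Localization.Away (Ideal.Quotient.mk I a)
    haveI := (hfree A₁ (IsLocalization.Away.algebraMap_isUnit _)).1
    have hflat : Module.Flat R₁ (A₁ ⊗[R₁] (D ⧸ Ideal.span {f₁})) := Module.Flat.trans R₁ A₁ _
    let p₁ : Ideal R₁ := (x.asIdeal.comap (algebraMap R C)).map (Ideal.Quotient.mk I)
    let x₁ : Ideal D := x.asIdeal.map (Ideal.Quotient.mk q)
    haveI : x₁.IsPrime := Ideal.map_isPrime_of_surjective Ideal.Quotient.mk_surjective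
      (by rwa [Ideal.mk_ker])
    have hx₁ : x₁.comap (Ideal.Quotient.mk q) = x.asIdeal := by
      rw [Ideal.comap_map_of_surjective _ Ideal.Quotient.mk_surjective, ← RingHom.ker_eq_comap_bot,
        Ideal.mk_ker, sup_eq_left.2 hqx]
    have hp₁ : p₁.map (algebraMap R₁ D) ≤ x₁ := by
      rw [Ideal.map_map, Ideal.map_le_iff_le_comap]
      intro r hr
      exact Ideal.mem_map_of_mem (Ideal.Quotient.mk q) (show algebraMap R C r ∈ x.asIdeal from hr)
    obtain ⟨y, hy, hyx⟩ := Ideal.exists_minimalPrimes_le hp₁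
    haveI := hy.1.1
    have hfy : f₁ ∉ y := by
      intro hfy
      obtain ⟨n, d, hd, hnd⟩ := exists_pow_mul_mem_of_mem_minimalPrimes hy hfy
      have hk : ∀ n : ℕ, ∀ d : D, f₁ ^ n * d ∈ p₁.map (algebraMap R₁ D) →
          ∃ k : ℕ, algebraMap R₁ D (Ideal.Quotient.mk I a) ^ k * d ∈ p₁.map (algebraMap R₁ D) := by
        intro n
        induction n with
        | zero => exact fun d hd => ⟨0, by simpa using hd⟩
        | succ n ih =>
          intro d hd
          rw [pow_succ, mul_assoc] at hd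
          obtain ⟨k, hk⟩ := ih _ hd
          rw [mul_left_comm] at hk
          obtain ⟨k', hk'⟩ := exists_pow_mul_mem_map hf₁ hflat p₁ hk
          exact ⟨k' + k, by rw [pow_add, mul_assoc]; exact hk'⟩
      obtain ⟨k, hk⟩ := hk n d hnd
      refine hd ((Ideal.IsPrime.mem_or_mem ‹y.IsPrime› (hy.1.2 hk)).resolve_left fun h => ?_)
      refine hxa ?_
      rw [← hx₁, Ideal.mem_comap]
      exact hyx (Ideal.IsPrime.mem_of_pow_mem ‹y.IsPrime› k h)
    let y₀ : PrimeSpectrum C := ⟨y.comap (Ideal.Quotient.mk q), inferInstance⟩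
    have hy₀x : y₀.asIdeal ≤ x.asIdeal := (Ideal.comap_mono hyx).trans hx₁.le
    refine mem_fibClosure.2 (closure_mono ?_ (specializes_iff_mem_closure.1
      ((PrimeSpectrum.le_iff_specializes y₀ x).1 hy₀x)))
    refine Set.singleton_subset_iff.2 ⟨fun h => hfy h, ?_⟩
    refine PrimeSpectrum.ext (le_antisymm (Ideal.comap_mono hy₀x) fun r hr => ?_)
    exact hy.1.2 (Ideal.mem_map_of_mem (algebraMap R₁ D) (Ideal.mem_map_of_mem (Ideal.Quotient.mk I) hr))
  choose! a haI ha using key
  have hfin := Ideal.finite_minimalPrimes_of_isNoetherianRing C (I.map (algebraMap R C))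
  refine ⟨∏ q ∈ hfin.toFinset, a q, fun h => ?_, fun x hxI hxa => ⟨fun hx => ?_, ?_⟩⟩
  · obtain ⟨q, hq, hq'⟩ := (Ideal.IsPrime.prod_mem_iff (hp := ‹I.IsPrime›)).1 h
    exact haI q (hfin.mem_toFinset.1 hq) hq'
  · have hsub : (PrimeSpectrum.basicOpen f : Set (PrimeSpectrum C)) ∩
        PrimeSpectrum.comap (algebraMap R C) ⁻¹' {PrimeSpectrum.comap (algebraMap R C) x} ⊆
        ⋃ q ∈ {q ∈ (I.map (algebraMap R C)).minimalPrimes | f ∉ q},
          PrimeSpectrum.zeroLocus (q : Set C) := by
      rintro z ⟨hzf, hz⟩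
      have hIz : I.map (algebraMap R C) ≤ z.asIdeal :=
        Ideal.map_le_iff_le_comap.2 (hxI.trans (congrArg PrimeSpectrum.asIdeal hz).ge)
      obtain ⟨q, hq, hqz⟩ := Ideal.exists_minimalPrimes_le hIz
      exact Set.mem_iUnion₂.2 ⟨q, ⟨hq, fun h => hzf (hqz h)⟩, hqz⟩
    obtain ⟨q, ⟨hq, hfq⟩, hqx⟩ := Set.mem_iUnion₂.1 (closure_minimal hsub
      ((hfin.subset fun q hq => hq.1).isClosed_biUnion fun q _ => PrimeSpectrum.isClosed_zeroLocus _) hx)
    exact ⟨q, hq, hfq, hqx⟩
  · rintro ⟨q, hq, hfq, hqx⟩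
    refine ((ha q hq).resolve_left hfq) x (fun h => hxa ?_) hqx
    rw [map_prod]
    rw [← Finset.prod_erase_mul _ _ (hfin.mem_toFinset.2 hq)]
    exact Ideal.mul_mem_left _ _ h

theorem isConstructible_fibClosure_basicOpen_noetherian (R C : Type u) [CommRing R] [CommRing C]
    [Algebra R C] [IsNoetherianRing R] [Algebra.FiniteType R C] (f : C) :
    IsConstructible (fibClosure (PrimeSpectrum.comap (algebraMap R C))
      (PrimeSpectrum.basicOpen f : Set (PrimeSpectrum C))) := by
  haveI : IsNoetherianRing C := Algebra.FiniteType.isNoetherianRing R C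
  let E := fibClosure (PrimeSpectrum.comap (algebraMap R C))
      (PrimeSpectrum.basicOpen f : Set (PrimeSpectrum C))
  let h : PrimeSpectrum C → PrimeSpectrum R := PrimeSpectrum.comap (algebraMap R C)
  suffices H : ∀ I : Ideal R, IsConstructible (E ∩ h ⁻¹' PrimeSpectrum.zeroLocus (I : Set R)) by
    have h0 := H ⊥
    rw [show h ⁻¹' PrimeSpectrum.zeroLocus ((⊥ : Ideal R) : Set R) = Set.univ by
      simp [PrimeSpectrum.zeroLocus_bot], Set.inter_univ] at h0
    exact h0
  intro I
  induction I using (wellFounded_gt (α := Ideal R)).induction with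
  | _ I IH =>
  by_cases hI : I.IsPrime
  swap
  · have hfin := Ideal.finite_minimalPrimes_of_isNoetherianRing R I
    have heq : h ⁻¹' PrimeSpectrum.zeroLocus (I : Set R) =
        ⋃ p ∈ I.minimalPrimes, h ⁻¹' PrimeSpectrum.zeroLocus (p : Set R) := by
      ext q
      simp only [Set.mem_preimage, PrimeSpectrum.mem_zeroLocus, Set.mem_iUnion, SetLike.coe_subset_coe]
      refine ⟨fun hq => ?_, fun ⟨p, hp, hpq⟩ => hp.1.2.trans hpq⟩
      obtain ⟨p, hp, hpq⟩ := Ideal.exists_minimalPrimes_le hq
      exact ⟨p, hp, hpq⟩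
    rw [heq, Set.inter_iUnion₂]
    refine IsConstructible.biUnion hfin fun p hp => IH p (lt_of_le_of_ne hp.1.2 ?_)
    rintro rfl
    exact hI hp.1.1
  obtain ⟨a, haI, ha⟩ := exists_generic_mem_fibClosure (C := C) I f
  have hfin : {q ∈ (I.map (algebraMap R C)).minimalPrimes | f ∉ q}.Finite :=
    (Ideal.finite_minimalPrimes_of_isNoetherianRing C (I.map (algebraMap R C))).subset fun q hq => hq.1
  have hsub : E ∩ h ⁻¹' PrimeSpectrum.zeroLocus (I : Set R) =
      ((⋃ q ∈ {q ∈ (I.map (algebraMap R C)).minimalPrimes | f ∉ q}, PrimeSpectrum.zeroLocus (q : Set C)) ∩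
        (PrimeSpectrum.basicOpen (algebraMap R C a) : Set (PrimeSpectrum C))) ∪
      (E ∩ h ⁻¹' PrimeSpectrum.zeroLocus ((I ⊔ Ideal.span {a} : Ideal R) : Set R)) := by
    ext x
    simp only [Set.mem_inter_iff, Set.mem_preimage, Set.mem_union, Set.mem_iUnion, exists_prop,
      PrimeSpectrum.mem_zeroLocus, SetLike.coe_subset_coe, Set.mem_ofPred_eq, sup_le_iff, Ideal.span_le,
      Set.singleton_subset_iff]
    constructor
    · rintro ⟨hxE, hxI⟩
      by_cases hxa : algebraMap R C a ∈ x.asIdeal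
      · exact Or.inr ⟨hxE, hxI, hxa⟩
      · obtain ⟨q, hq, hfq, hqx⟩ := (ha x hxI hxa).1 hxE
        exact Or.inl ⟨⟨q, ⟨hq, hfq⟩, hqx⟩, hxa⟩
    · rintro (⟨⟨q, ⟨hq, hfq⟩, hqx⟩, hxa⟩ | ⟨hxE, hxI, -⟩)
      · have hxI : I ≤ x.asIdeal.comap (algebraMap R C) :=
          Ideal.map_le_iff_le_comap.1 (hq.1.2.trans hqx)
        exact ⟨(ha x hxI hxa).2 ⟨q, hq, hfq, hqx⟩, hxI⟩
      · exact ⟨hxE, hxI⟩
  rw [hsub]
  refine IsConstructible.union (.inter ?_ PrimeSpectrum.isConstructible_basicOpen) (IH _ ?_)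
  · rw [← isConstructible_compl]
    exact (TopologicalSpace.NoetherianSpace.isCompact _).isConstructible
      (hfin.isClosed_biUnion fun q _ => PrimeSpectrum.isClosed_zeroLocus _).isOpen_compl
  · exact lt_of_le_of_ne le_sup_left fun h' => haI (h'.ge (le_sup_right (a := I)
      (Ideal.mem_span_singleton_self a)))

theorem isConstructible_fibClosure_basicOpen (A C : Type u) [CommRing A] [CommRing C] [Algebra A C]
    [Algebra.FinitePresentation A C] (f : C) :
    IsConstructible (fibClosure (PrimeSpectrum.comap (algebraMap A C))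
      (PrimeSpectrum.basicOpen f : Set (PrimeSpectrum C))) := by
  obtain ⟨R, C₀, _, _, _, _, hR, hC₀, ⟨e⟩⟩ := FlatH4.exists_approx A C
  haveI : IsNoetherianRing R := Algebra.FiniteType.isNoetherianRing ℤ R
  obtain ⟨A', hA', hmem⟩ := FlatH4.exists_subalgebra_subset_range e {f}
  obtain ⟨f₁, hf₁⟩ := hmem f (Finset.mem_singleton_self f)
  haveI : Algebra.FiniteType R A' := A'.fg_iff_finiteType.1 hA'
  haveI : IsNoetherianRing A' := Algebra.FiniteType.isNoetherianRing R A'
  let C₁ := A' ⊗[R] C₀
  let ψ : C₁ →ₐ[R] A ⊗[R] C₀ := Algebra.TensorProduct.map A'.val (AlgHom.id R C₀)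
  let q : CommRingCat.of C₁ ⟶ CommRingCat.of C :=
    CommRingCat.ofHom (e.toRingEquiv.toRingHom.comp ψ.toRingHom)
  have h1 := FlatH4.isPullback_SpecMap_of_algEquiv e
  have h2 := FibreLocus.isPullback_specT_tensor R A' C₀
  have hsq : Spec.map q ≫ FibreLocus.specT A' C₁ = FibreLocus.specT A C ≫ FibreLocus.specT A' A := by
    simp only [q, FibreLocus.specT, ← Spec.map_comp, ← CommRingCat.ofHom_comp]
    congr 2
    ext a
    show e (ψ (a ⊗ₜ 1)) = algebraMap A C (a : A)
    rw [Algebra.TensorProduct.map_tmul]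
    exact e.commutes (a : A)
  have hP : IsPullback (Spec.map q) (FibreLocus.specT A C) (FibreLocus.specT A' C₁) (FibreLocus.specT A' A) := by
    refine IsPullback.of_right ?_ hsq h2
    convert h1 using 1
    · simp only [q, ← Spec.map_comp, ← CommRingCat.ofHom_comp]
      congr 2
    · simp only [FibreLocus.specT, ← Spec.map_comp, ← CommRingCat.ofHom_comp]
      rfl
  have hbc := fibClosure_baseChange hP (PrimeSpectrum.basicOpen f₁ : Set (PrimeSpectrum C₁))
  have hf : (e.toRingEquiv.toRingHom.comp ψ.toRingHom) f₁ = f := hf₁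
  have hpre : PrimeSpectrum.comap (e.toRingEquiv.toRingHom.comp ψ.toRingHom) ⁻¹'
      (PrimeSpectrum.basicOpen f₁ : Set (PrimeSpectrum C₁)) = PrimeSpectrum.basicOpen f := by
    rw [← hf]; rfl
  haveI : Algebra.FiniteType A' C₁ := inferInstance
  have hc := (Spec.map q).isConstructible_preimage
    (isConstructible_fibClosure_basicOpen_noetherian A' C₁ f₁)
  rw [← hpre]
  exact (congrArg IsConstructible hbc.symm).mp hc

theorem isConstructible_fibClosure_affine (A C : Type u) [CommRing A] [CommRing C] [Algebra A C]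
    [Algebra.FinitePresentation A C] {Z : Set (PrimeSpectrum C)} (hZ : IsConstructible Z) :
    IsConstructible (fibClosure (PrimeSpectrum.comap (algebraMap A C)) Z) := by
  classical
  obtain ⟨D, rfl⟩ := PrimeSpectrum.exists_constructibleSetData_iff.2 hZ
  rw [PrimeSpectrum.ConstructibleSetData.toSet, fibClosure_biUnion]
  refine IsConstructible.biUnion D.finite_toSet fun d _ => ?_
  let J : Ideal C := Ideal.span (Set.range d.g)
  haveI : Algebra.FinitePresentation A (C ⧸ J) :=
    Algebra.FinitePresentation.quotient ⟨(Set.finite_range d.g).toFinset, by simp [J]⟩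
  let i := PrimeSpectrum.comap (Ideal.Quotient.mk J)
  have hi : IsClosedEmbedding i :=
    PrimeSpectrum.isClosedEmbedding_comap_of_surjective _ _ Ideal.Quotient.mk_surjective
  have hd : d.toSet = i '' (PrimeSpectrum.basicOpen (Ideal.Quotient.mk J d.f) : Set (PrimeSpectrum (C ⧸ J))) := by
    have : (PrimeSpectrum.basicOpen (Ideal.Quotient.mk J d.f) : Set (PrimeSpectrum (C ⧸ J))) =
        i ⁻¹' (PrimeSpectrum.basicOpen d.f : Set (PrimeSpectrum C)) := rfl
    rw [this, Set.image_preimage_eq_inter_range,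
      range_comap_of_surjective _ _ Ideal.Quotient.mk_surjective, Ideal.mk_ker,
      PrimeSpectrum.BasicConstructibleSetData.toSet, PrimeSpectrum.zeroLocus_span,
      PrimeSpectrum.basicOpen_eq_zeroLocus_compl, Set.inter_comm]
    rfl
  rw [hd, fibClosure_image_isClosedEmbedding _ hi]
  refine PrimeSpectrum.isConstructible_comap_image ?_ (isConstructible_fibClosure_basicOpen A (C ⧸ J) _)
  exact RingHom.FinitePresentation.of_surjective _ Ideal.Quotient.mk_surjective (by
    rw [Ideal.mk_ker]; exact ⟨(Set.finite_range d.g).toFinset, by simp [J]⟩)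

/-- The points in the closure, inside their fibre, of a locally constructible set form a locally
constructible set. -/
theorem isLocallyConstructible_fibClosure {X S : Scheme.{u}} (f : X ⟶ S)
    [LocallyOfFinitePresentation f] {Z : Set X} (hZ : IsLocallyConstructible Z) :
    IsLocallyConstructible (fibClosure f Z) := by
  have hloc : ∀ x : X, ∃ V : X.Opens, x ∈ V ∧
      IsLocallyConstructible ((Subtype.val : ↥(V : Set X) → X) ⁻¹' fibClosure f Z) := by
    intro x
    obtain ⟨U, hU, hxU, -⟩ :=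
      exists_isAffineOpen_mem_and_subset (X := S) (x := f x) (U := ⊤) trivial
    obtain ⟨V, hV, hxV, hVU⟩ :=
      exists_isAffineOpen_mem_and_subset (X := X) (x := x) (U := f ⁻¹ᵁ U) hxU
    refine ⟨V, hxV, ?_⟩
    have hfp := f.finitePresentation_appLE hU hV hVU
    algebraize [(f.appLE U V hVU).hom]
    have hc := isConstructible_fibClosure_affine Γ(S, U) Γ(X, V) (Z := hV.fromSpec ⁻¹' Z)
      (hZ.preimage_of_isOpenEmbedding hV.fromSpec.isOpenEmbedding).isConstructible
    have hsq : Spec.map (f.appLE U V hVU) ≫ hU.fromSpec = hV.fromSpec ≫ f :=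
      IsAffineOpen.SpecMap_appLE_fromSpec f hU hV hVU
    replace hc : IsConstructible (hV.fromSpec ⁻¹' fibClosure f Z) := by
      rw [← fibClosure_comp_isOpenEmbedding f hV.fromSpec.isOpenEmbedding Z,
        show (f : X → S) ∘ hV.fromSpec = (hU.fromSpec : _ → S) ∘ Spec.map (f.appLE U V hVU) from
          funext fun z => (congrArg (fun m : Spec Γ(X, V) ⟶ S => m z) hsq).symm,
        fibClosure_comp_injective _ hU.fromSpec.isOpenEmbedding.injective]
      exact hc
    have h2 := hc.preimage_of_isOpenEmbedding hV.isoSpec.hom.isOpenEmbedding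
    refine IsConstructible.isLocallyConstructible (X := ↥(V : Set X)) ?_
    refine (congrArg IsConstructible (Set.ext ?_)).mp h2
    rintro ⟨y, hy⟩
    show hV.fromSpec (hV.isoSpec.hom ⟨y, hy⟩) ∈ fibClosure f Z ↔ y ∈ fibClosure f Z
    rw [← Scheme.Hom.comp_apply, IsAffineOpen.isoSpec_hom_fromSpec]
    rfl
  choose V hxV hV using hloc
  exact .of_isOpenCover (TopologicalSpace.IsOpenCover.mk (top_le_iff.1 fun x _ =>
    TopologicalSpace.Opens.mem_iSup.2 ⟨x, hxV x⟩)) hV

end Groth.Agent.FibreTop
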