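import Groth.Agent.Lib.Descend.QuasiFinite
import Groth.Agent.Lib.H12.DimZero
import Mathlib.AlgebraicGeometry.PullbackCarrier

/-!
# Closure inside the fibres of a map
-/

universe u v w

set_option linter.style.haveILetI false
set_option backward.isDefEq.respectTransparency false

open CategoryTheory CategoryTheory.Limits AlgebraicGeometry Topology

namespace Groth.Agent.FibreTop

variable {X : Type u} {S : Type v} [TopologicalSpace X]

/-- The points which are in the closure of `Z` inside their own fibre of `f`. -/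
def fibClosure (f : X → S) (Z : Set X) : Set X := {x | x ∈ closure (Z ∩ f ⁻¹' {f x})}

theorem mem_fibClosure {f : X → S} {Z : Set X} {x : X} :
    x ∈ fibClosure f Z ↔ x ∈ closure (Z ∩ f ⁻¹' {f x}) := Iff.rfl

theorem subset_fibClosure (f : X → S) (Z : Set X) : Z ⊆ fibClosure f Z := fun _ hx =>
  subset_closure ⟨hx, rfl⟩

theorem fibClosure_mono (f : X → S) {Z Z' : Set X} (h : Z ⊆ Z') :
    fibClosure f Z ⊆ fibClosure f Z' := fun _ hx =>
  closure_mono (Set.inter_subset_inter_left _ h) hx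

theorem fibClosure_subset_closure (f : X → S) (Z : Set X) : fibClosure f Z ⊆ closure Z := fun _ hx =>
  closure_mono Set.inter_subset_left hx

theorem fibClosure_biUnion {ι : Type w} (f : X → S) (s : Finset ι) (Z : ι → Set X) :
    fibClosure f (⋃ i ∈ s, Z i) = ⋃ i ∈ s, fibClosure f (Z i) := by
  ext x
  rw [mem_fibClosure, Set.iUnion₂_inter, Finset.closure_biUnion s (fun i => Z i ∩ f ⁻¹' {f x})]
  simp [mem_fibClosure]

theorem fibClosure_comp_injective {T : Type w} (f : X → S) {g : S → T} (hg : Function.Injective g)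
    (Z : Set X) : fibClosure (g ∘ f) Z = fibClosure f Z := by
  ext x
  rw [mem_fibClosure, mem_fibClosure,
    show (g ∘ f) ⁻¹' {(g ∘ f) x} = f ⁻¹' {f x} from Set.ext fun z => hg.eq_iff]

theorem fibClosure_comp_isOpenEmbedding {U : Type w} [TopologicalSpace U] (f : X → S) {j : U → X}
    (hj : IsOpenEmbedding j) (Z : Set X) : fibClosure (f ∘ j) (j ⁻¹' Z) = j ⁻¹' fibClosure f Z := by
  ext x
  rw [Set.mem_preimage, mem_fibClosure, mem_fibClosure, ← Set.mem_preimage,
    hj.isOpenMap.preimage_closure_eq_closure_preimage hj.continuous]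
  rfl

theorem fibClosure_image_isClosedEmbedding {U : Type w} [TopologicalSpace U] (f : X → S) {i : U → X}
    (hi : IsClosedEmbedding i) (Z : Set U) : fibClosure f (i '' Z) = i '' fibClosure (f ∘ i) Z := by
  ext x
  rw [mem_fibClosure, ← Set.image_inter_preimage, hi.closure_image_eq]
  refine ⟨?_, ?_⟩ <;> rintro ⟨u, hu, rfl⟩ <;> exact ⟨u, hu, rfl⟩

theorem isClosed_fibre_iff (f : X → S) (Z : Set X) (s : S) :
    IsClosed (Subtype.val ⁻¹' Z : Set ↥(f ⁻¹' {s})) ↔
      ∀ x, f x = s → x ∈ fibClosure f Z → x ∈ Z := by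
  rw [← closure_subset_iff_isClosed, IsInducing.subtypeVal.closure_eq_preimage_closure_image,
    Subtype.image_preimage_coe, Set.inter_comm]
  constructor
  · intro h x hx hxC
    refine h (show (⟨x, hx⟩ : ↥(f ⁻¹' {s})) ∈ _ from ?_)
    show x ∈ closure (Z ∩ f ⁻¹' {s})
    rwa [mem_fibClosure, hx] at hxC
  · rintro h ⟨x, hx⟩ hxC
    refine h x hx ?_
    rw [mem_fibClosure, hx]
    exact hxC

theorem dense_fibre_iff (f : X → S) (Z Z' : Set X) (s : S) :
    Z' ∩ f ⁻¹' {s} ⊆ closure (Z ∩ f ⁻¹' {s}) ↔ ∀ x, f x = s → x ∈ Z' → x ∈ fibClosure f Z := by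
  refine ⟨fun h x hx hxZ => ?_, fun h x hx => ?_⟩
  · rw [mem_fibClosure, hx]; exact h ⟨hxZ, hx⟩
  · have := h x hx.2 hx.1
    rwa [mem_fibClosure, show f x = s from hx.2] at this

theorem isLocallyClosed_fibre_iff (f : X → S) (Z : Set X) (s : S) :
    IsLocallyClosed (Subtype.val ⁻¹' Z : Set ↥(f ⁻¹' {s})) ↔
      ∀ x, f x = s → x ∈ Z → x ∉ fibClosure f (fibClosure f Z \ Z) := by
  rw [isLocallyClosed_iff_isOpen_coborder, coborder, isOpen_compl_iff]
  have hcl : closure (Subtype.val ⁻¹' Z : Set ↥(f ⁻¹' {s})) \ Subtype.val ⁻¹' Z =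
      Subtype.val ⁻¹' (fibClosure f Z \ Z) := by
    ext ⟨x, hx⟩
    rw [IsInducing.subtypeVal.closure_eq_preimage_closure_image, Subtype.image_preimage_coe,
      Set.inter_comm]
    simp only [Set.mem_sdiff, Set.mem_preimage, mem_fibClosure, show f x = s from hx]
  rw [hcl, isClosed_fibre_iff]
  refine ⟨fun h x hx hxZ hxC => (h x hx hxC).2 hxZ, fun h x hx hxC => ?_⟩
  have h1 : x ∈ fibClosure f Z := by
    rw [mem_fibClosure] at hxC ⊢
    refine closure_minimal ?_ isClosed_closure hxC
    rintro y ⟨⟨hyC, -⟩, hy⟩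
    rwa [mem_fibClosure, show f y = f x from hy] at hyC
  exact ⟨h1, fun hxZ => h x hx hxZ hxC⟩

/-- Closure in the fibres commutes with every base change. -/
theorem fibClosure_baseChange {X S P T : Scheme.{u}} {f : X ⟶ S} {p : P ⟶ X} {g : P ⟶ T}
    {q : T ⟶ S} (hP : IsPullback p g f q) (Z : Set X) :
    fibClosure g (p ⁻¹' Z) = p ⁻¹' fibClosure f Z := by
  ext x
  obtain ⟨x₀, hx₀⟩ : x ∈ Set.range (g.fiberι (g x)) := by
    rw [Scheme.Hom.range_fiberι]; exact rfl
  let y' := g x
  let k := Spec.map (q.residueFieldMap y')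
  have hk : k ≫ S.fromSpecResidueField (q y') = T.fromSpecResidueField y' ≫ q :=
    Scheme.Hom.SpecMap_residueFieldMap_fromSpecResidueField q y'
  have hcond : (g.fiberι y' ≫ p) ≫ f = (g.fiberToSpecResidueField y' ≫ k) ≫ S.fromSpecResidueField (q y') := by
    rw [Category.assoc, hP.w, Category.assoc, hk, ← Category.assoc, ← Category.assoc]
    congr 1
    exact pullback.condition
  let φ : g.fiber y' ⟶ f.fiber (q y') := pullback.lift _ _ hcond
  have hφ : IsPullback φ (g.fiberToSpecResidueField y') (f.fiberToSpecResidueField (q y')) k := by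
    refine IsPullback.of_right ?_ (pullback.lift_snd _ _ _) (IsPullback.of_hasPullback f _)
    rw [pullback.lift_fst, hk]
    exact (IsPullback.of_hasPullback g (T.fromSpecResidueField y')).paste_horiz hP
  haveI : UniversallyOpen k := H12.universallyOpen_of_discreteTopology k
  haveI : UniversallyOpen φ := MorphismProperty.of_isPullback hφ.flip ‹UniversallyOpen k›
  have hl : φ ≫ f.fiberι (q y') = g.fiberι y' ≫ p := pullback.lift_fst _ _ _
  have hcomp : ∀ z, f.fiberι (q y') (φ z) = p (g.fiberι y' z) := fun z =>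
    congrArg (fun m : g.fiber y' ⟶ X => m z) hl
  have hfx : f (p x) = q y' := by
    rw [← Scheme.Hom.comp_apply, hP.w]; rfl
  have e1 : x ∈ fibClosure g (p ⁻¹' Z) ↔ x₀ ∈ closure (g.fiberι y' ⁻¹' (p ⁻¹' Z)) := by
    rw [(g.fiberι y').isEmbedding.closure_eq_preimage_closure_image, Set.mem_preimage,
      Set.image_preimage_eq_inter_range, Scheme.Hom.range_fiberι, hx₀]
    rfl
  have e2 : p x ∈ fibClosure f Z ↔ φ x₀ ∈ closure (f.fiberι (q y') ⁻¹' Z) := by
    rw [(f.fiberι (q y')).isEmbedding.closure_eq_preimage_closure_image, Set.mem_preimage,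
      Set.image_preimage_eq_inter_range, Scheme.Hom.range_fiberι, hcomp, hx₀, mem_fibClosure, hfx]
  rw [Set.mem_preimage, e1, e2,
    ← Set.mem_preimage (f := φ), φ.isOpenMap.preimage_closure_eq_closure_preimage φ.continuous,
    show φ ⁻¹' (f.fiberι (q y') ⁻¹' Z) = g.fiberι y' ⁻¹' (p ⁻¹' Z) from
      Set.ext fun z => by rw [Set.mem_preimage, Set.mem_preimage, hcomp]; rfl]

end Groth.Agent.FibreTop
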