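import Groth.Agent.Lib.FibreTop.Strata
import Groth.Agent.Lib.FibreTop.FiniteFactor
import Groth.Agent.Lib.FibreLocus.QF

/-!
# Finite fibres and immersive fibres
-/

universe u

set_option linter.style.haveILetI false
set_option backward.isDefEq.respectTransparency false

open CategoryTheory CategoryTheory.Limits AlgebraicGeometry Topology TopologicalSpace

namespace Groth.Agent.FibreTop

theorem isFinite_comp_iff {W Z Y : Scheme.{u}} (i : W ⟶ Z) [IsImmersion i] (q : Z ⟶ Y) [IsFinite q] :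
    IsFinite (i ≫ q) ↔ closure (Set.range i) ⊆ Set.range i := by
  refine ⟨fun h => ?_, fun h => ?_⟩
  · haveI : IsFinite i := IsFinite.of_comp i q
    exact i.isClosedMap.isClosed_range.closure_subset
  · haveI : IsClosedImmersion i := .of_isPreimmersion _ (closure_subset_iff_isClosed.1 h)
    infer_instance

theorem isImmersion_comp_iff {W Z Y : Scheme.{u}} (i : W ⟶ Z) [IsImmersion i] (q : Z ⟶ Y) [IsFinite q] :
    IsImmersion (i ≫ q) ↔ (Mono (i ≫ q) ∧ IsLocallyClosed (Set.range (i ≫ q))) ∧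
      ∀ z, z ∈ closure (Set.range i) → q z ∈ Set.range (i ≫ q) → z ∈ Set.range i := by
  refine ⟨fun h => ⟨⟨inferInstance, (i ≫ q).isLocallyClosed_range⟩, fun z hz hqz => ?_⟩,
    fun ⟨⟨hm, hl⟩, h⟩ => ?_⟩
  · let U := (i ≫ q).coborderRange
    have hr : Set.range (i ≫ q) ⊆ (U : Set Y) := fun y hy => subset_coborder hy
    have hi : Set.range i ⊆ Set.range (q ⁻¹ᵁ U).ι := by
      rw [Scheme.Opens.range_ι]
      rintro _ ⟨w, rfl⟩
      exact hr ⟨w, rfl⟩
    let i' := IsOpenImmersion.lift (q ⁻¹ᵁ U).ι i hi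
    have hfac : i' ≫ q ∣_ U = (i ≫ q).liftCoborder := by
      rw [← cancel_mono U.ι, Category.assoc, morphismRestrict_ι, IsOpenImmersion.lift_fac_assoc,
        Scheme.Hom.liftCoborder_ι]
    haveI : IsClosedImmersion (i' ≫ q ∣_ U) := by rw [hfac]; infer_instance
    haveI : IsClosedImmersion i' := IsClosedImmersion.of_comp i' (q ∣_ U)
    have hz' : (⟨z, hr hqz⟩ : (q ⁻¹ᵁ U).toScheme) ∈ closure (Set.range i') := by
      rw [(q ⁻¹ᵁ U).ι.isEmbedding.closure_eq_preimage_closure_image, ← Set.range_comp]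
      show z ∈ closure (Set.range fun w => (q ⁻¹ᵁ U).ι (i' w))
      simp only [← Scheme.Hom.comp_apply]
      rw [IsOpenImmersion.lift_fac]
      exact hz
    rw [i'.isClosedEmbedding.isClosed_range.closure_eq] at hz'
    obtain ⟨w, hw⟩ := hz'
    refine ⟨w, ?_⟩
    have hw' := congrArg (fun t => (q ⁻¹ᵁ U).ι t) hw
    simp only [← Scheme.Hom.comp_apply, i', IsOpenImmersion.lift_fac] at hw'
    exact hw'
  · let U : Y.Opens := ⟨coborder (Set.range (i ≫ q)), hl.isOpen_coborder⟩
    have hr : Set.range (i ≫ q) ⊆ (U : Set Y) := fun y hy => subset_coborder hy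
    haveI : IsClosedImmersion (i ∣_ q ⁻¹ᵁ U) := by
      refine .of_isPreimmersion _ ?_
      rw [← closure_subset_iff_isClosed]
      intro z hz
      have hzi : (q ⁻¹ᵁ U).ι z ∈ closure (Set.range i) := by
        rw [(q ⁻¹ᵁ U).ι.isEmbedding.closure_eq_preimage_closure_image] at hz
        refine closure_mono ?_ hz
        rintro _ ⟨_, ⟨w, rfl⟩, rfl⟩
        exact ⟨(i ⁻¹ᵁ q ⁻¹ᵁ U).ι w, by
          rw [← Scheme.Hom.comp_apply, ← Scheme.Hom.comp_apply, morphismRestrict_ι]⟩
      have hqz : q ((q ⁻¹ᵁ U).ι z) ∈ closure (Set.range (i ≫ q)) := by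
        refine closure_mono ?_ (image_closure_subset_closure_image q.continuous ⟨_, hzi, rfl⟩)
        rintro _ ⟨_, ⟨w, rfl⟩, rfl⟩
        exact ⟨w, rfl⟩
      have hzr : q ((q ⁻¹ᵁ U).ι z) ∈ Set.range (i ≫ q) := by
        rw [← coborder_inter_closure (s := Set.range (i ≫ q))]
        exact ⟨z.2, hqz⟩
      obtain ⟨w, hw⟩ := h _ hzi hzr
      refine ⟨⟨w, show q (i w) ∈ U by rw [hw]; exact z.2⟩, ?_⟩
      apply (q ⁻¹ᵁ U).ι.isEmbedding.injective
      rw [← Scheme.Hom.comp_apply, morphismRestrict_ι]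
      exact hw
    haveI : Mono ((i ≫ q) ∣_ U) :=
      (MorphismProperty.monomorphisms Scheme.{u}).of_isPullback (isPullback_morphismRestrict _ U).flip hm
    haveI : IsClosedImmersion ((i ≫ q) ∣_ U) := by
      rw [IsClosedImmersion.iff_isFinite_and_mono]
      refine ⟨?_, inferInstance⟩
      rw [morphismRestrict_comp]
      infer_instance
    exact isImmersion_of_restrict _ (fun _ : PUnit.{1} => U) (fun w => ⟨⟨⟩, hr ⟨w, rfl⟩⟩)
      fun _ => inferInstance

/-- The fibre of an immersion followed by a finite morphism. -/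
theorem exists_fibre_factor {X Z Y S : Scheme.{u}} (j : X ⟶ Z) [IsImmersion j] (π : Z ⟶ Y) [IsFinite π]
    (g : Y ⟶ S) (s : S) :
    ∃ i : pullback (j ≫ π) (g.fiberι s) ⟶ pullback π (g.fiberι s),
      i ≫ pullback.snd π (g.fiberι s) = pullback.snd (j ≫ π) (g.fiberι s) ∧ IsImmersion i ∧
      Set.range i = pullback.fst π (g.fiberι s) ⁻¹' Set.range j ∧
      Set.range (pullback.fst π (g.fiberι s)) = (π ≫ g) ⁻¹' {s} := by
  let ι := g.fiberι s
  let i : pullback (j ≫ π) ι ⟶ pullback π ι :=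
    pullback.lift (pullback.fst (j ≫ π) ι ≫ j) (pullback.snd (j ≫ π) ι)
      (by rw [Category.assoc]; exact pullback.condition)
  have hi : IsPullback i (pullback.fst (j ≫ π) ι) (pullback.fst π ι) j :=
    IsPullback.of_right (by rw [pullback.lift_snd]; exact (IsPullback.of_hasPullback _ _).flip)
      (pullback.lift_fst _ _ _) (IsPullback.of_hasPullback π ι).flip
  refine ⟨i, pullback.lift_snd _ _ _, MorphismProperty.of_isPullback hi.flip inferInstance,
    FibreLocus.range_eq_preimage_of_isPullback hi, ?_⟩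
  rw [FibreLocus.range_eq_preimage_of_isPullback (IsPullback.of_hasPullback π ι), Scheme.Hom.range_fiberι]
  rfl

theorem isFinite_fibre_iff {X Z Y S : Scheme.{u}} (j : X ⟶ Z) [IsImmersion j] (π : Z ⟶ Y) [IsFinite π]
    (g : Y ⟶ S) (s : S) :
    IsFinite (pullback.snd (j ≫ π) (g.fiberι s)) ↔
      ∀ z, (π ≫ g) z = s → z ∈ fibClosure (π ≫ g) (Set.range j) → z ∈ Set.range j := by
  obtain ⟨i, hi, hi', hr, hm⟩ := exists_fibre_factor j π g s
  rw [← hi, isFinite_comp_iff, hr]
  exact forall_mem_preimage_closure_iff (π ≫ g) _ s hm (Set.range j) (· ∈ Set.range j)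

theorem isLocallyClosed_preimage_fiberι_iff {Y S : Scheme.{u}} (g : Y ⟶ S) (s : S) (Z : Set Y) :
    IsLocallyClosed (g.fiberι s ⁻¹' Z) ↔ IsLocallyClosed (Subtype.val ⁻¹' Z : Set ↥(g ⁻¹' {s})) := by
  refine ⟨fun h => ?_, fun h => ?_⟩
  · have := h.preimage (g.fiberHomeo s).symm.continuous
    convert this using 1
    ext y
    simp
  · exact h.preimage (g.fiberHomeo s).continuous

theorem isImmersion_fibre_iff {X Z Y S : Scheme.{u}} (j : X ⟶ Z) [IsImmersion j] (π : Z ⟶ Y) [IsFinite π]
    (g : Y ⟶ S) (s : S) :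
    IsImmersion (pullback.snd (j ≫ π) (g.fiberι s)) ↔
      (Mono (pullback.snd (j ≫ π) (g.fiberι s)) ∧
        IsLocallyClosed (Subtype.val ⁻¹' Set.range (j ≫ π) : Set ↥(g ⁻¹' {s}))) ∧
      ∀ z, (π ≫ g) z = s → z ∈ fibClosure (π ≫ g) (Set.range j) →
        π z ∈ Set.range (j ≫ π) → z ∈ Set.range j := by
  obtain ⟨i, hi, hi', hr, hm⟩ := exists_fibre_factor j π g s
  have hb : Set.range (pullback.snd (j ≫ π) (g.fiberι s)) = g.fiberι s ⁻¹' Set.range (j ≫ π) :=
    FibreLocus.range_eq_preimage_of_isPullback (IsPullback.of_hasPullback _ _).flip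
  rw [← hi, isImmersion_comp_iff, hi, hb, isLocallyClosed_preimage_fiberι_iff, hr]
  refine and_congr_right fun _ => ?_
  have := forall_mem_preimage_closure_iff (π ≫ g) (pullback.fst π (g.fiberι s)) s hm (Set.range j)
    (fun z => π z ∈ Set.range (j ≫ π) → z ∈ Set.range j)
  refine Iff.trans (forall₂_congr fun z _ => ?_) this
  rw [Set.mem_preimage, Set.mem_preimage, ← Scheme.Hom.comp_apply (pullback.snd π (g.fiberι s)),
    ← pullback.condition, Scheme.Hom.comp_apply]

/-- Replacing a base change by a pullback square. -/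
theorem iff_snd_of_isPullback (P : MorphismProperty Scheme.{u}) [P.RespectsIso] {A B X Y : Scheme.{u}}
    {a : A ⟶ X} {b : A ⟶ B} {f : X ⟶ Y} {q : B ⟶ Y} (h : IsPullback a b f q) :
    P b ↔ P (pullback.snd f q) := by
  rw [← h.isoPullback_hom_snd]
  exact P.cancel_left_of_respectsIso h.isoPullback.hom _

theorem fibLocus_local (P : MorphismProperty Scheme.{u}) [IsZariskiLocalAtTarget P]
    {X Y S : Scheme.{u}} (f : X ⟶ Y) (g : Y ⟶ S) {ι : Type*} (V : ι → Y.Opens) (hV : ⨆ i, V i = ⊤) :
    fibLocus P f g = ⋂ i, fibLocus P (f ∣_ V i) ((V i).ι ≫ g) := by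
  ext s
  simp only [Set.mem_iInter]
  let b := pullback.snd f (g.fiberι s)
  have htop : ⨆ i, g.fiberι s ⁻¹ᵁ V i = ⊤ := by
    rw [← Scheme.Hom.preimage_iSup, hV, Scheme.Hom.preimage_top]
  refine (IsZariskiLocalAtTarget.iff_of_iSup_eq_top (P := P) _ htop).trans (forall_congr' fun i => ?_)
  let W := g.fiberι s ⁻¹ᵁ V i
  have hW : IsPullback (g.fiberι s ∣_ V i) W.ι (V i).ι (g.fiberι s) :=
    isPullback_morphismRestrict (g.fiberι s) (V i)
  have hWS : IsPullback (g.fiberι s ∣_ V i) (W.ι ≫ g.fiberToSpecResidueField s) ((V i).ι ≫ g)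
      (S.fromSpecResidueField s) := hW.paste_vert (IsPullback.of_hasPullback g _)
  let e := hWS.isoPullback
  have he : e.hom ≫ ((V i).ι ≫ g).fiberι s = g.fiberι s ∣_ V i := hWS.isoPullback_hom_fst
  have hbig : IsPullback ((b ⁻¹ᵁ W).ι ≫ pullback.fst f (g.fiberι s)) (b ∣_ W) f
      (g.fiberι s ∣_ V i ≫ (V i).ι) := by
    rw [hW.w]
    exact (isPullback_morphismRestrict b W).flip.paste_horiz (IsPullback.of_hasPullback f _)
  have hsq := isPullback_morphismRestrict f (V i)
  let a : (b ⁻¹ᵁ W).toScheme ⟶ (f ⁻¹ᵁ V i).toScheme :=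
    hsq.flip.lift _ (b ∣_ W ≫ g.fiberι s ∣_ V i) (by rw [Category.assoc]; exact hbig.w)
  have ha : IsPullback a (b ∣_ W) (f ∣_ V i) (e.hom ≫ ((V i).ι ≫ g).fiberι s) := by
    rw [he]
    exact IsPullback.of_right (by rw [IsPullback.lift_fst]; exact hbig) (IsPullback.lift_snd _ _ _ _)
      hsq.flip
  have ha' : IsPullback a (b ∣_ W ≫ e.hom) (f ∣_ V i) (((V i).ι ≫ g).fiberι s) :=
    ha.of_iso (Iso.refl _) (Iso.refl _) e (Iso.refl _) (by simp) (by simp) (by simp) (by simp)
  show P (b ∣_ W) ↔ P (pullback.snd (f ∣_ V i) (((V i).ι ≫ g).fiberι s))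
  rw [← iff_snd_of_isPullback P ha', P.cancel_right_of_respectsIso]

theorem locallyQuasiFinite_of_fibres {X Y S : Scheme.{u}} (f : X ⟶ Y) (g : Y ⟶ S)
    [LocallyOfFinitePresentation f] (h : ∀ s, LocallyQuasiFinite (pullback.snd f (g.fiberι s))) :
    LocallyQuasiFinite f := by
  refine (FibreLocus.forall_qfPt_iff f).1 fun x => ?_
  have := (FibreLocus.forall_fibre_iff (Q := FibreLocus.QFPt) f g _).1
    ((FibreLocus.forall_qfPt_iff _).2 (h (g (f x)))) x rfl
  rwa [FibreLocus.fibSet_qfPt_eq] at this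

theorem preimage_range_diagonal {X Y X' Y' : Scheme.{u}} {f : X ⟶ Y} {f' : X' ⟶ Y'} {p : X' ⟶ X}
    {q : Y' ⟶ Y} [IsPreimmersion q] (h : IsPullback p f' f q) :
    pullback.map f' f' f f p p q h.w.symm h.w.symm ⁻¹' Set.range (pullback.diagonal f) =
      Set.range (pullback.diagonal f') := by
  let m := pullback.map f' f' f f p p q h.w.symm h.w.symm
  have htop : IsPullback m (pullback.fst f' f') (pullback.fst f f) p := by
    refine IsPullback.of_right ?_ (pullback.lift_fst _ _ _) (IsPullback.of_hasPullback f f).flip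
    rw [show m ≫ pullback.snd f f = pullback.snd f' f' ≫ p from pullback.lift_snd _ _ _]
    rw [show pullback.fst f' f' = pullback.fst f' f' from rfl]
    have := (IsPullback.of_hasPullback f' f').flip.paste_horiz h
    rw [h.w]
    exact this
  haveI : IsPreimmersion p := MorphismProperty.of_isPullback h.flip inferInstance
  haveI : IsPreimmersion m := MorphismProperty.of_isPullback htop.flip inferInstance
  have hΔm : pullback.diagonal f' ≫ m = p ≫ pullback.diagonal f := by
    apply pullback.hom_ext <;> simp [m, pullback.lift_fst, pullback.lift_snd]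
  ext w
  constructor
  · rintro ⟨x, hx⟩
    have h1 : p (pullback.fst f' f' w) = x := by
      rw [← Scheme.Hom.comp_apply, ← htop.w, Scheme.Hom.comp_apply]
      show pullback.fst f f (m w) = x
      rw [show m w = pullback.diagonal f x from hx.symm, ← Scheme.Hom.comp_apply, pullback.diagonal_fst]
      rfl
    refine ⟨pullback.fst f' f' w, m.isEmbedding.injective ?_⟩
    rw [← Scheme.Hom.comp_apply, hΔm, Scheme.Hom.comp_apply, h1]
    exact hx
  · rintro ⟨x', rfl⟩
    exact ⟨p x', by rw [← Scheme.Hom.comp_apply, ← Scheme.Hom.comp_apply, hΔm]⟩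

/-- Reduction of a fibre locus to morphisms which are an immersion followed by a finite morphism. -/
theorem isLocallyConstructible_fibLocus (P : MorphismProperty Scheme.{u}) [IsZariskiLocalAtTarget P]
    (hP : ∀ {X Y : Scheme.{u}} (f : X ⟶ Y), P f → IsSeparated f ∧ LocallyQuasiFinite f)
    (hmain : ∀ {X Z Y S : Scheme.{u}} (j : X ⟶ Z) (π : Z ⟶ Y) (g : Y ⟶ S), IsImmersion j → IsFinite π →
      LocallyOfFinitePresentation π → LocallyOfFinitePresentation g → QuasiCompact g → QuasiSeparated g →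
      LocallyOfFinitePresentation (j ≫ π) → QuasiCompact (j ≫ π) → QuasiSeparated (j ≫ π) →
      IsLocallyConstructible (fibLocus P (j ≫ π) g))
    {X Y S : Scheme.{u}} (f : X ⟶ Y) (g : Y ⟶ S)
    [LocallyOfFinitePresentation g] [QuasiCompact g] [QuasiSeparated g]
    [LocallyOfFinitePresentation (f ≫ g)] [QuasiCompact (f ≫ g)] [QuasiSeparated (f ≫ g)] :
    IsLocallyConstructible (fibLocus P f g) := by
  haveI := SchBasic.locallyOfFinitePresentation_of_comp f g
  haveI : QuasiCompact f := QuasiCompact.of_comp f g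
  haveI : QuasiSeparated f := QuasiSeparated.of_comp f g
  let T₀ : Set S := fibLocus @IsSeparated f g ∩ fibLocus @LocallyQuasiFinite f g
  have hT₀ : IsLocallyConstructible T₀ :=
    (isLocallyConstructible_setOf_fibre_isSeparated f g).inter
      (FibreLocus.isLocallyConstructible_setOf_fibre_qf f g)
  refine isLocallyConstructible_of_strata fun A σ hσ p => ?_
  by_cases hp : σ p ∈ T₀
  swap
  · refine ⟨σ ⁻¹' T₀ᶜ, ((AnPtsTop.isLocallyConstructible_compl hT₀).preimage_of_isOpenEmbedding
      σ.isOpenEmbedding).isConstructible, hp, fun B τ _ _ hτ => ?_⟩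
    rw [show (τ ≫ σ) ⁻¹' fibLocus P f g = ∅ from Set.eq_empty_iff_forall_notMem.2 fun t ht =>
      (show σ (τ t) ∉ T₀ from hτ ⟨t, rfl⟩) ⟨(hP _ ht).1, (hP _ ht).2⟩]
    exact IsLocallyConstructible.empty
  let g1 := pullback.snd g σ
  let f1 := pullback.snd f (pullback.fst g σ)
  let h1 := pullback.fst f1 f1 ≫ f1 ≫ g1
  haveI : QuasiSeparatedSpace ↥(pullback f1 f1) := quasiSeparatedSpace_of_quasiSeparated h1
  let D := Set.range (pullback.diagonal f1)
  haveI : LocallyOfFinitePresentation (pullback.diagonal f1) :=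
    haveI : LocallyOfFinitePresentation (pullback.diagonal f1 ≫ pullback.fst f1 f1) := by
      rw [pullback.diagonal_fst]; infer_instance
    SchBasic.locallyOfFinitePresentation_of_comp (pullback.diagonal f1) (pullback.fst f1 f1)
  have hD : IsLocallyConstructible D := by
    show IsLocallyConstructible (Set.range (pullback.diagonal f1))
    rw [← Set.image_univ]
    exact (pullback.diagonal f1).isLocallyConstructible_image IsLocallyConstructible.univ
  have hWopen : IsOpen (Subtype.val ⁻¹' Dᶜ : Set ↥(h1 ⁻¹' {p})) := by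
    rw [Set.preimage_compl, isOpen_compl_iff, isClosed_fibre_iff]
    refine (isSeparated_fibre_iff f1 g1 p).1 ?_
    have h2 : p ∈ σ ⁻¹' fibLocus @IsSeparated f g := hp.1
    rw [fibLocus_preimage] at h2
    exact h2
  obtain ⟨U, hUc, hU⟩ := exists_open_agree h1 p Dᶜ hWopen
  have hUlc : IsLocallyConstructible (U : Set ↥(pullback f1 f1)) :=
    (IsRetrocompact.isConstructible U.2
      (fun V hV hVo => QuasiSeparatedSpace.inter_isCompact _ _ U.2 hUc hVo hV)).isLocallyConstructible
  let G : Set ↥(pullback f1 f1) := {z | z ∈ (U : Set _) → z ∈ Dᶜ} ∩ {z | z ∈ Dᶜ → z ∈ (U : Set _)}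
  have hG : IsLocallyConstructible G :=
    (isLocallyConstructible_imp hUlc (AnPtsTop.isLocallyConstructible_compl hD)).inter
      (isLocallyConstructible_imp (AnPtsTop.isLocallyConstructible_compl hD) hUlc)
  refine ⟨{a | ∀ z, h1 z = a → z ∈ G} ∩ σ ⁻¹' T₀,
    ((isLocallyConstructible_forall_fibre h1 hG).inter
      (hT₀.preimage_of_isOpenEmbedding σ.isOpenEmbedding)).isConstructible,
    ⟨fun z hz => ⟨(hU z hz).1, (hU z hz).2⟩, hp⟩, fun B τ hτ hτf hr => ?_⟩
  let g2 := pullback.snd g1 τ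
  let f2 := pullback.snd f1 (pullback.fst g1 τ)
  have hE : (τ ≫ σ) ⁻¹' fibLocus P f g = fibLocus P f2 g2 := by
    show τ ⁻¹' (σ ⁻¹' fibLocus P f g) = _
    rw [fibLocus_preimage P f g σ, fibLocus_preimage P f1 g1 τ]
  rw [hE]
  haveI : LocallyQuasiFinite f2 := by
    refine locallyQuasiFinite_of_fibres f2 g2 fun t => ?_
    have h2 : t ∈ τ ⁻¹' (σ ⁻¹' fibLocus @LocallyQuasiFinite f g) := (hr ⟨t, rfl⟩).2.2
    rw [fibLocus_preimage _ f g σ, fibLocus_preimage _ f1 g1 τ] at h2
    exact h2
  haveI : IsPreimmersion (pullback.fst g1 τ) := MorphismProperty.pullback_fst _ _ inferInstance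
  haveI : IsSeparated f2 := by
    have hsq : IsPullback (pullback.fst f1 (pullback.fst g1 τ)) f2 f1 (pullback.fst g1 τ) :=
      IsPullback.of_hasPullback _ _
    let m := pullback.map f2 f2 f1 f1 _ _ _ hsq.w.symm hsq.w.symm
    refine ⟨.of_isPreimmersion _ ?_⟩
    rw [← preimage_range_diagonal hsq]
    have hmem : ∀ w, (m w ∈ (U : Set _) ↔ m w ∈ Dᶜ) := fun w => by
      have hw : h1 (m w) = τ ((pullback.fst f2 f2 ≫ f2 ≫ g2) w) := by
        rw [← Scheme.Hom.comp_apply, ← Scheme.Hom.comp_apply]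
        congr 2
        simp only [h1, g2, m, f2, pullback.map, Category.assoc, pullback.lift_fst_assoc]
        rw [← pullback.condition (f := g1) (g := τ), ← hsq.w_assoc]
      have := (hr ⟨_, rfl⟩).1 (m w) hw
      exact ⟨this.1, this.2⟩
    show IsClosed (m ⁻¹' D)
    rw [show m ⁻¹' D = m ⁻¹' (U : Set _)ᶜ from Set.ext fun w => by
      simp only [Set.mem_preimage, Set.mem_compl_iff, hmem, not_not]]
    exact U.2.isClosed_compl.preimage m.continuous
  haveI : CompactSpace ↥(pullback g1 τ) := QuasiCompact.compactSpace_of_compactSpace g2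
  obtain ⟨s, hs⟩ := (isCompact_univ (X := ↥(pullback g1 τ))).elim_finite_subcover
    (fun V : (pullback g1 τ).affineOpens => ((V : (pullback g1 τ).Opens) : Set _)) (fun V => V.1.2)
    (fun y _ => by
      obtain ⟨V, hV, hy, -⟩ := exists_isAffineOpen_mem_and_subset (X := pullback g1 τ) (x := y)
        (U := ⊤) trivial
      exact Set.mem_iUnion.2 ⟨⟨V, hV⟩, hy⟩)
  rw [fibLocus_local P f2 g2 (fun V : s => (V.1 : (pullback g1 τ).Opens)) (top_le_iff.1 fun y _ => by
    obtain ⟨V, hV⟩ := Set.mem_iUnion.1 (hs (Set.mem_univ y))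
    obtain ⟨hVs, hy⟩ := Set.mem_iUnion.1 hV
    exact Opens.mem_iSup.2 ⟨⟨V, hVs⟩, hy⟩)]
  refine IsLocallyConstructible.iInter fun V => ?_
  haveI : IsAffine (V.1.1 : (pullback g1 τ).Opens).toScheme := V.1.2
  haveI : LocallyQuasiFinite (f2 ∣_ V.1.1) :=
    MorphismProperty.of_isPullback (isPullback_morphismRestrict _ _).flip ‹LocallyQuasiFinite f2›
  obtain ⟨Z, j, π, hj, hπ, hπ', hfac⟩ := exists_immersion_finite (f2 ∣_ V.1.1)
  haveI : QuasiCompact (V.1.1.ι ≫ g2) := by
    haveI : CompactSpace (V.1.1 : (pullback g1 τ).Opens).toScheme := inferInstance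
    exact quasiCompact_of_compactSpace _
  rw [← hfac]
  exact hmain j π _ hj hπ hπ' inferInstance inferInstance inferInstance
    (by rw [hfac]; infer_instance) (by rw [hfac]; infer_instance) (by rw [hfac]; infer_instance)

theorem isLocallyConstructible_range {X Z Y : Scheme.{u}} (j : X ⟶ Z) (π : Z ⟶ Y) [IsFinite π]
    [LocallyOfFinitePresentation π] [LocallyOfFinitePresentation (j ≫ π)] [QuasiCompact (j ≫ π)] :
    IsLocallyConstructible (Set.range j) ∧ IsLocallyConstructible (Set.range (j ≫ π)) := by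
  haveI := SchBasic.locallyOfFinitePresentation_of_comp j π
  haveI : QuasiCompact j := QuasiCompact.of_comp j π
  refine ⟨?_, ?_⟩ <;> rw [← Set.image_univ]
  · exact j.isLocallyConstructible_image IsLocallyConstructible.univ
  · exact (j ≫ π).isLocallyConstructible_image IsLocallyConstructible.univ

/-- The points with finite fibre maps form a locally constructible set. -/
theorem isLocallyConstructible_fibLocus_isFinite {X Y S : Scheme.{u}} (f : X ⟶ Y) (g : Y ⟶ S)
    [LocallyOfFinitePresentation g] [QuasiCompact g] [QuasiSeparated g]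
    [LocallyOfFinitePresentation (f ≫ g)] [QuasiCompact (f ≫ g)] [QuasiSeparated (f ≫ g)] :
    IsLocallyConstructible (fibLocus @IsFinite f g) := by
  refine isLocallyConstructible_fibLocus @IsFinite (fun f _ => ⟨inferInstance, inferInstance⟩)
    (fun {X Z Y S} j π g hj hπ hπ' _ _ _ _ _ _ => ?_) f g
  have hj' := (isLocallyConstructible_range j π).1
  have : fibLocus @IsFinite (j ≫ π) g = {s | ∀ z, (π ≫ g) z = s →
      z ∈ {z | z ∈ fibClosure (π ≫ g) (Set.range j) → z ∈ Set.range j}} :=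
    Set.ext fun s => isFinite_fibre_iff j π g s
  rw [this]
  exact isLocallyConstructible_forall_fibre (π ≫ g)
    (isLocallyConstructible_imp (isLocallyConstructible_fibClosure _ hj') hj')

/-- The points with immersive fibre maps form a locally constructible set, given those with
monomorphisms as fibre maps. -/
theorem isLocallyConstructible_fibLocus_isImmersion
    (hmono : ∀ {X Y S : Scheme.{u}} (f : X ⟶ Y) (g : Y ⟶ S), LocallyOfFinitePresentation g →
      QuasiCompact g → QuasiSeparated g → LocallyOfFinitePresentation (f ≫ g) → QuasiCompact (f ≫ g) →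
      QuasiSeparated (f ≫ g) → IsLocallyConstructible (fibLocus (.monomorphisms _) f g))
    {X Y S : Scheme.{u}} (f : X ⟶ Y) (g : Y ⟶ S)
    [LocallyOfFinitePresentation g] [QuasiCompact g] [QuasiSeparated g]
    [LocallyOfFinitePresentation (f ≫ g)] [QuasiCompact (f ≫ g)] [QuasiSeparated (f ≫ g)] :
    IsLocallyConstructible (fibLocus @IsImmersion f g) := by
  refine isLocallyConstructible_fibLocus @IsImmersion (fun f _ => ⟨inferInstance, inferInstance⟩)
    (fun {X Z Y S} j π g hj hπ hπ' _ _ _ _ _ _ => ?_) f g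
  obtain ⟨hj', hf'⟩ := isLocallyConstructible_range j π
  let A : Set Z := fibClosure (π ≫ g) (Set.range j) ∩ π ⁻¹' Set.range (j ≫ π)
  have : fibLocus @IsImmersion (j ≫ π) g = (fibLocus (.monomorphisms _) (j ≫ π) g ∩
      {s | IsLocallyClosed (Subtype.val ⁻¹' Set.range (j ≫ π) : Set ↥(g ⁻¹' {s}))}) ∩
      {s | ∀ z, (π ≫ g) z = s → z ∈ {z | z ∈ A → z ∈ Set.range j}} := Set.ext fun s => by
    refine (isImmersion_fibre_iff j π g s).trans (and_congr Iff.rfl ?_)
    exact forall₂_congr fun z _ => ⟨fun h hz => h hz.1 hz.2, fun h h1 h2 => h ⟨h1, h2⟩⟩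
  rw [this]
  refine ((hmono (j ≫ π) g inferInstance inferInstance inferInstance inferInstance inferInstance
    inferInstance).inter (isLocallyConstructible_setOf_isLocallyClosed hf')).inter
    (isLocallyConstructible_forall_fibre (π ≫ g) (isLocallyConstructible_imp ?_ hj'))
  refine (isLocallyConstructible_fibClosure _ hj').inter ?_
  haveI : QuasiCompact (pullback.fst π (j ≫ π)) := MorphismProperty.pullback_fst _ _ inferInstance
  haveI : LocallyOfFinitePresentation (pullback.fst π (j ≫ π)) :=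
    MorphismProperty.pullback_fst _ _ inferInstance
  rw [← Scheme.Pullback.range_fst (f := π) (g := j ≫ π), ← Set.image_univ]
  exact (pullback.fst π (j ≫ π)).isLocallyConstructible_image IsLocallyConstructible.univ

end Groth.Agent.FibreTop
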